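import Groth.Agent.FittX.Free
import Groth.Agent.QCoh.LocFree
import Groth.Agent.QCoh.Support
import Groth.Agent.QCoh.PullbackBC
import Groth.Agent.QCoh.Pullback
import Groth.Agent.ModPairLib.Basic

/-!
# Fitting ideal sheaves: values on affines, base change, supports
-/

set_option backward.isDefEq.respectTransparency false
set_option backward.isDefEq.respectTransparency.types false
set_option linter.style.haveILetI false

universe u

open CategoryTheory CategoryTheory.Limits AlgebraicGeometry TopologicalSpace Opposite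

namespace Groth.Agent.FittX

open Groth.Agent.QCoh

/-- Finite type is stable under pullback. -/
theorem isFT_pullback {X Y : Scheme.{u}} (f : Y ⟶ X) {M : X.Modules} (hM : Coh.IsQCoh M) (hft : CohB1.IsFT M) :
    CohB1.IsFT ((Scheme.Modules.pullback f).obj M) := by
  let ι := {p : Y.affineOpens × X.affineOpens // (p.1.1 : Y.Opens) ≤ f ⁻¹ᵁ p.2.1}
  refine isFT_of_finite (isQCoh_pullback f hM) (fun i : ι => i.1.1.1) ?_ (fun i => i.1.1.2) fun i => ?_
  · exact top_le_iff.1 fun y _ => Opens.mem_iSup.2 <| by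
      obtain ⟨_, ⟨U, hU, rfl⟩, hxU, -⟩ :=
        X.isBasis_affineOpens.exists_subset_of_mem_open (Set.mem_univ (f y)) isOpen_univ
      obtain ⟨_, ⟨W, hW, rfl⟩, hyW, hWU⟩ :=
        Y.isBasis_affineOpens.exists_subset_of_mem_open (show y ∈ f ⁻¹ᵁ U from hxU) (f ⁻¹ᵁ U).2
      exact ⟨⟨(⟨W, hW⟩, ⟨U, hU⟩), hWU⟩, hyW⟩
  · obtain ⟨⟨⟨W, hW⟩, ⟨U, hU⟩⟩, hWU⟩ := i
    let N := (Scheme.Modules.pullback f).obj M
    letI : Algebra Γ(X, U) Γ(Y, W) := (f.appLE U W hWU).hom.toAlgebra
    letI : Module Γ(X, U) Γ(N, W) := Module.compHom _ (f.appLE U W hWU).hom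
    haveI : IsScalarTower Γ(X, U) Γ(Y, W) Γ(N, W) :=
      ⟨fun a b c => mul_smul ((f.appLE U W hWU).hom a) b c⟩
    haveI := finite_of_isFT hM hft hU
    let l : Γ(M, U) →ₗ[Γ(X, U)] Γ(N, W) :=
      { toFun := pullSec f M hWU
        map_add' := pullSec_add f M hWU
        map_smul' := pullSec_smul f M hWU }
    exact Module.Finite.equiv
      (isBaseChange_pullback hU f hW hM hWU (fun r => rfl) l fun x => rfl).equiv

variable {X : Scheme.{u}} {M : X.Modules}

theorem isBaseChange_basicRes (hM : Coh.IsQCoh M) {U : X.Opens} (hU : IsAffineOpen U) (f : Γ(X, U)) :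
    letI := basicModule f M
    haveI : IsScalarTower Γ(X, U) Γ(X, X.basicOpen f) Γ(M, X.basicOpen f) :=
      IsScalarTower.of_algebraMap_smul fun _ _ => rfl
    IsBaseChange Γ(X, X.basicOpen f) (basicRes f M) := by
  letI := basicModule f M
  haveI : IsScalarTower Γ(X, U) Γ(X, X.basicOpen f) Γ(M, X.basicOpen f) :=
    IsScalarTower.of_algebraMap_smul fun _ _ => rfl
  haveI := hU.isLocalization_basicOpen f
  haveI := isLocalizedModule_basicRes f hM hU
  exact IsLocalizedModule.isBaseChange (Submonoid.powers f) Γ(X, X.basicOpen f) (basicRes f M)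

theorem map_basicOpen (hM : Coh.IsQCoh M) (hft : CohB1.IsFT M) (r : ℕ) (U : X.affineOpens) (f : Γ(X, U.1)) :
    (Fitt.ideal Γ(X, U.1) Γ(M, U.1) r).map (algebraMap Γ(X, U.1) Γ(X, X.basicOpen f)) =
      Fitt.ideal Γ(X, X.basicOpen f) Γ(M, X.basicOpen f) r := by
  haveI := finite_of_isFT hM hft U.2
  letI := basicModule f M
  haveI : IsScalarTower Γ(X, U.1) Γ(X, X.basicOpen f) Γ(M, X.basicOpen f) :=
    IsScalarTower.of_algebraMap_smul fun _ _ => rfl
  exact (ideal_baseChange (isBaseChange_basicRes hM U.2 f) r).symm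

/-- On affine opens the Fitting ideal sheaf has the Fitting ideals as values. -/
theorem sheafIdeal_ideal (hM : Coh.IsQCoh M) (hft : CohB1.IsFT M) (r : ℕ) (U : X.affineOpens) :
    (Fitt.sheafIdeal M r).ideal U = Fitt.ideal Γ(X, U.1) Γ(M, U.1) r := by
  let I : X.IdealSheafData :=
    { ideal := fun U => Fitt.ideal Γ(X, U.1) Γ(M, U.1) r
      map_ideal_basicOpen := fun U f => map_basicOpen hM hft r U f }
  rw [show Fitt.sheafIdeal M r = I from Scheme.IdealSheafData.ofIdeals_ideal I]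

theorem eq_of_cover {I J : X.IdealSheafData}
    (h : ∀ x : X, ∃ U : X.affineOpens, x ∈ U.1 ∧ I.ideal U = J.ideal U) : I = J := by
  choose U hx hU using h
  exact Scheme.IdealSheafData.ext_of_iSup_eq_top U
    (top_le_iff.1 fun x _ => Opens.mem_iSup.2 ⟨x, hx x⟩) hU

theorem mem_support_sheafIdeal (hM : Coh.IsQCoh M) (hft : CohB1.IsFT M) (r : ℕ) {U : X.Opens}
    (hU : IsAffineOpen U) {x : X} (hx : x ∈ U) :
    x ∈ (Fitt.sheafIdeal M r).support ↔
      Fitt.ideal Γ(X, U) Γ(M, U) r ≤ (hU.primeIdealOf ⟨x, hx⟩).asIdeal := by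
  rw [Scheme.IdealSheafData.mem_support_iff_of_mem (U := ⟨U, hU⟩) hx, sheafIdeal_ideal hM hft,
    Scheme.mem_zeroLocus_iff]
  exact ⟨fun h a ha => by_contra fun hn => h a ha ((mem_basicOpen_iff_notMem hU hx a).2 hn),
    fun h a ha hxa => (mem_basicOpen_iff_notMem hU hx a).1 hxa (h ha)⟩

theorem sheafIdeal_comap {T : Scheme.{u}} (φ : T ⟶ X) (hM : Coh.IsQCoh M) (hft : CohB1.IsFT M) (r : ℕ) :
    (Fitt.sheafIdeal M r).comap φ = Fitt.sheafIdeal ((Scheme.Modules.pullback φ).obj M) r := by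
  refine eq_of_cover fun t => ?_
  obtain ⟨_, ⟨V, hV, rfl⟩, hxV, -⟩ :=
    X.isBasis_affineOpens.exists_subset_of_mem_open (Set.mem_univ (φ t)) isOpen_univ
  obtain ⟨_, ⟨W, hW, rfl⟩, htW, hWV⟩ :=
    T.isBasis_affineOpens.exists_subset_of_mem_open (show t ∈ φ ⁻¹ᵁ V from hxV) (φ ⁻¹ᵁ V).isOpen
  have hle : W ≤ φ ⁻¹ᵁ V := hWV
  have hV' : IsAffineOpen V := hV
  have hW' : IsAffineOpen W := hW
  refine ⟨⟨W, hW'⟩, htW, ?_⟩
  haveI := finite_of_isFT hM hft hV'
  rw [ModPairLib.ideal_comap _ φ ⟨V, hV'⟩ ⟨W, hW'⟩ hle, sheafIdeal_ideal hM hft,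
    sheafIdeal_ideal (isQCoh_pullback φ hM) (isFT_pullback φ hM hft)]
  letI : Algebra Γ(X, V) Γ(T, W) := (φ.appLE V W hle).hom.toAlgebra
  letI : Module Γ(X, V) Γ((Scheme.Modules.pullback φ).obj M, W) :=
    Module.compHom _ (φ.appLE V W hle).hom
  haveI : IsScalarTower Γ(X, V) Γ(T, W) Γ((Scheme.Modules.pullback φ).obj M, W) :=
    IsScalarTower.of_algebraMap_smul fun _ _ => rfl
  let l : Γ(M, V) →ₗ[Γ(X, V)] Γ((Scheme.Modules.pullback φ).obj M, W) :=
    { toFun := pullSec φ M hle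
      map_add' := pullSec_add φ M hle
      map_smul' := fun a x => pullSec_smul φ M hle a x }
  exact (ideal_baseChange (isBaseChange_pullback (hV := hV') (hW := hW') φ hM hle (fun _ => rfl) l
    fun _ => rfl) r).symm

theorem isFiniteTypeIdeal (hfp : CohB1.IsFP M) (r : ℕ) (U : X.affineOpens) :
    ((Fitt.sheafIdeal M r).ideal U).FG := by
  haveI := finitePresentation_of_isFP hfp U.2
  rw [sheafIdeal_ideal (isQCoh_of_isFP hfp) (isFT_of_isFP hfp)]
  exact ideal_fg r

theorem support_sheafIdeal_zero (hM : Coh.IsQCoh M) (hft : CohB1.IsFT M) :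
    ((Fitt.sheafIdeal M 0).support : Set X) = CohB1.support M := by
  ext x
  obtain ⟨_, ⟨U, hU, rfl⟩, hx, -⟩ :=
    X.isBasis_affineOpens.exists_subset_of_mem_open (Set.mem_univ x) isOpen_univ
  have hU' : IsAffineOpen U := hU
  haveI := finite_of_isFT hM hft hU'
  rw [SetLike.mem_coe, mem_support_sheafIdeal hM hft 0 hU' hx, ← mem_moduleSupport_iff hM hU' hx,
    ← zeroLocus_eq_support, PrimeSpectrum.mem_zeroLocus, SetLike.coe_subset_coe]

theorem exists_not_mem_support (hM : Coh.IsQCoh M) (hft : CohB1.IsFT M) (x : X) :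
    ∃ r, x ∉ (Fitt.sheafIdeal M r).support := by
  obtain ⟨_, ⟨U, hU, rfl⟩, hx, -⟩ :=
    X.isBasis_affineOpens.exists_subset_of_mem_open (Set.mem_univ x) isOpen_univ
  have hU' : IsAffineOpen U := hU
  haveI := finite_of_isFT hM hft hU'
  obtain ⟨n, g, hg⟩ := exists_gen Γ(X, U) Γ(M, U)
  refine ⟨n, fun h => ?_⟩
  rw [mem_support_sheafIdeal hM hft n hU' hx, ideal_eq_top_of_gen g hg le_rfl] at h
  exact (hU'.primeIdealOf ⟨x, hx⟩).isPrime.ne_top (top_le_iff.1 h)

section Epi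

/-- The chart of an epimorphism from a free module on a larger open. -/
theorem exists_gens_of_epi {U V : X.Opens} (hV : IsAffineOpen V) (hle : V ≤ U) (hM : Coh.IsQCoh M)
    {r : ℕ} (π : FlatMod.freeMod (U : Scheme.{u}) r ⟶ M.restrict U.ι) [Epi π] :
    ∃ g : Fin r → Γ(M, V), Submodule.span Γ(X, V) (Set.range g) = ⊤ := by
  let j : Spec Γ(X, V) ⟶ (U : Scheme.{u}) := hV.isoSpec.inv ≫ X.homOfLE hle
  let e : (M.restrict U.ι).restrict j ≅ M.restrict hV.fromSpec :=
    restrictRestrict M _ _ ≪≫ (Scheme.Modules.restrictFunctorCongr (show j ≫ U.ι = hV.fromSpec by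
      rw [Category.assoc, Scheme.homOfLE_ι, IsAffineOpen.isoSpec_inv_ι])).app M
  let p : (SheafOfModules.free.{u} (ULift.{u} (Fin r)) : (Spec Γ(X, V)).Modules) ⟶ M.restrict hV.fromSpec :=
    (freeModIso _ r).inv ≫ (freeModRestrict j r).inv ≫ (Scheme.Modules.restrictFunctor j).map π ≫ e.hom
  haveI : PreservesColimitsOfSize.{u, u} (Scheme.Modules.restrictFunctor j) := inferInstance
  haveI : Epi ((Scheme.Modules.restrictFunctor j).map π) := by
    haveI : (Scheme.Modules.restrictFunctor j).PreservesEpimorphisms :=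
      Functor.preservesEpimorphisms_of_adjunction (Scheme.Modules.restrictAdjunction j)
    exact Functor.map_epi _ _
  haveI : Epi p :=
    @epi_comp _ _ _ _ _ (freeModIso _ r).inv inferInstance _ (@epi_comp _ _ _ _ _ (freeModRestrict j r).inv
      inferInstance _ (@epi_comp _ _ _ _ _ ((Scheme.Modules.restrictFunctor j).map π) inferInstance e.hom
        inferInstance))
  obtain ⟨ψ, e', h⟩ := exists_module_gens (isQCoh_restrict hV.fromSpec hM) p
  let l : (ULift.{u} (Fin r) →₀ Γ(X, V)) →ₗ[Γ(X, V)] Γ(M, V) := (chartEquiv hV M).symm.toLinearMap ∘ₗ ψ.hom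
  have hl : Function.Surjective l := (chartEquiv hV M).symm.surjective.comp (epi_module_gens h)
  refine ⟨fun i => l (Finsupp.single ⟨i⟩ 1), ?_⟩
  rw [eq_top_iff, ← LinearMap.range_eq_top.2 hl, LinearMap.range_eq_map, ← Finsupp.basisSingleOne.span_eq,
    Submodule.map_span, Submodule.span_le]
  rintro _ ⟨_, ⟨i, rfl⟩, rfl⟩
  exact Submodule.subset_span ⟨i.down, by simp⟩

/-- Generators over an affine open give an epimorphism from a free module. -/
theorem exists_epi_of_gens {V : X.Opens} (hV : IsAffineOpen V) (hM : Coh.IsQCoh M) {r : ℕ}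
    (g : Fin r → Γ(M, V)) (hg : Submodule.span Γ(X, V) (Set.range g) = ⊤) :
    ∃ π : FlatMod.freeMod (V : Scheme.{u}) r ⟶ M.restrict V.ι, Epi π := by
  let R := Γ(X, V)
  let N := M.restrict hV.fromSpec
  have hN : Coh.IsQCoh N := isQCoh_restrict hV.fromSpec hM
  let ι := ULift.{u} (Fin r)
  let l : (ι →₀ R) →ₗ[R] moduleSpecΓFunctor.obj N :=
    (chartEquiv hV M).toLinearMap ∘ₗ Finsupp.linearCombination R (fun i : ι => g i.down)
  have hl : Function.Surjective l := by
    refine (chartEquiv hV M).surjective.comp ?_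
    rw [← LinearMap.range_eq_top, Finsupp.range_linearCombination]
    rw [show (fun i : ι => g i.down) = g ∘ ULift.down from rfl,
      Set.range_comp, ULift.down_surjective.range_eq, Set.image_univ, hg]
  have : IsIso N.fromTildeΓ := (isQuasicoherent_iff_isIso_fromTildeΓ N).1 hN
  let ψ : ModuleCat.of R (ι →₀ R) ⟶ moduleSpecΓFunctor.obj N :=
    @ModuleCat.ofHom R _ (ι →₀ R) (moduleSpecΓFunctor.obj N) _ _ _ (moduleSpecΓFunctor.obj N).isModule l
  have hψ : Epi ψ := (ModuleCat.epi_iff_surjective ψ).2 hl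
  let e : tilde (moduleSpecΓFunctor.obj N) ≅ N := @asIso _ _ _ _ N.fromTildeΓ this
  have : (tilde.functor R).PreservesEpimorphisms :=
    Functor.preservesEpimorphisms_of_adjunction tilde.adjunction
  have : Epi ((tilde.functor R).map ψ) := Functor.map_epi _ _
  let p' : tilde (ModuleCat.of R (ι →₀ R)) ⟶ N := (tilde.functor R).map ψ ≫ e.hom
  have hp' : Epi p' := epi_comp _ _
  let p : FlatMod.freeMod (Spec R) r ⟶ N := (freeModIso _ r).hom ≫ (tildeFinsupp ι).inv ≫ p'
  have hp : Epi p := @epi_comp _ _ _ _ _ (freeModIso _ r).hom inferInstance _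
    (@epi_comp _ _ _ _ _ (tildeFinsupp ι).inv inferInstance p' hp')
  let j := hV.isoSpec.hom
  haveI : (Scheme.Modules.restrictFunctor j).PreservesEpimorphisms :=
    Functor.preservesEpimorphisms_of_adjunction (Scheme.Modules.restrictAdjunction j)
  haveI : Epi ((Scheme.Modules.restrictFunctor j).map p) := Functor.map_epi _ _
  exact ⟨(freeModRestrict j r).inv ≫ (Scheme.Modules.restrictFunctor j).map p ≫ (chartRestrictIso hV M).hom,
    @epi_comp _ _ _ _ _ (freeModRestrict j r).inv inferInstance _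
      (@epi_comp _ _ _ _ _ ((Scheme.Modules.restrictFunctor j).map p) inferInstance
        (chartRestrictIso hV M).hom inferInstance)⟩

theorem generated_iff (hM : Coh.IsQCoh M) (hft : CohB1.IsFT M) (x : X) (r : ℕ) :
    (∃ U : X.Opens, x ∈ U ∧ ∃ π : FlatMod.freeMod (U : Scheme.{u}) r ⟶ M.restrict U.ι, Epi π) ↔
      x ∉ (Fitt.sheafIdeal M r).support := by
  constructor
  · rintro ⟨U, hxU, π, hπ⟩
    obtain ⟨_, ⟨V, hV, rfl⟩, hxV, hVU⟩ :=
      X.isBasis_affineOpens.exists_subset_of_mem_open (show x ∈ U from hxU) U.isOpen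
    have hV' : IsAffineOpen V := hV
    haveI := hπ
    obtain ⟨g, hg⟩ := exists_gens_of_epi hV' (show V ≤ U from hVU) hM π
    rw [mem_support_sheafIdeal hM hft r hV' hxV, ideal_eq_top_of_gen g hg le_rfl]
    exact fun h => (hV'.primeIdealOf ⟨x, hxV⟩).isPrime.ne_top (top_le_iff.1 h)
  · intro hx
    obtain ⟨_, ⟨U, hU, rfl⟩, hxU, -⟩ :=
      X.isBasis_affineOpens.exists_subset_of_mem_open (Set.mem_univ x) isOpen_univ
    have hU' : IsAffineOpen U := hU
    haveI := finite_of_isFT hM hft hU'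
    rw [mem_support_sheafIdeal hM hft r hU' hxU] at hx
    obtain ⟨d, hd, -, g, hg⟩ := exists_smul_mem_span hx
    refine ⟨X.basicOpen d, (mem_basicOpen_iff_notMem hU' hxU d).2 hd, ?_⟩
    letI := basicModule d M
    haveI : IsScalarTower Γ(X, U) Γ(X, X.basicOpen d) Γ(M, X.basicOpen d) :=
      IsScalarTower.of_algebraMap_smul fun _ _ => rfl
    haveI := hU'.isLocalization_basicOpen d
    exact exists_epi_of_gens (hU'.basicOpen d) hM _ (span_eq_top_of_smul_mem
      (isBaseChange_basicRes hM hU' d) (IsLocalization.Away.algebraMap_isUnit d) hg)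

end Epi

theorem isFinLocFreeOfRank_iff (hM : Coh.IsQCoh M) (hft : CohB1.IsFT M) (r : ℕ) :
    FlatMod.IsFinLocFreeOfRank r M ↔
      (∀ k : ℕ, k < r → Fitt.sheafIdeal M k = ⊥) ∧ (∀ k : ℕ, r ≤ k → Fitt.sheafIdeal M k = ⊤) := by
  constructor
  · intro h
    have key : ∀ x : X, ∃ V : X.affineOpens, x ∈ V.1 ∧
        ∀ k, (k < r → Fitt.ideal Γ(X, V.1) Γ(M, V.1) k = ⊥) ∧
          (r ≤ k → Fitt.ideal Γ(X, V.1) Γ(M, V.1) k = ⊤) := by
      intro x
      obtain ⟨U, hxU, ⟨e⟩⟩ := h x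
      obtain ⟨_, ⟨V, hV, rfl⟩, hxV, hVU⟩ :=
        X.isBasis_affineOpens.exists_subset_of_mem_open (show x ∈ U from hxU) U.isOpen
      obtain ⟨l⟩ := free_sections (M := M) hV (show V ≤ U from hVU) e
      let b : Module.Basis (Fin r) Γ(X, V) Γ(M, V) :=
        (Module.Basis.ofRepr l).reindex Equiv.ulift
      haveI : Module.Finite Γ(X, V) Γ(M, V) := Module.Finite.of_basis b
      exact ⟨⟨V, hV⟩, hxV, fun k => ⟨fun hk => ideal_eq_bot_of_free _ k r b hk,
        fun hk => ideal_eq_top_of_gen b b.span_eq hk⟩⟩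
    refine ⟨fun k hk => eq_of_cover fun x => ?_, fun k hk => eq_of_cover fun x => ?_⟩
    · obtain ⟨V, hxV, hV⟩ := key x
      exact ⟨V, hxV, by rw [sheafIdeal_ideal hM hft, (hV k).1 hk, Scheme.IdealSheafData.ideal_bot]; rfl⟩
    · obtain ⟨V, hxV, hV⟩ := key x
      exact ⟨V, hxV, by rw [sheafIdeal_ideal hM hft, (hV k).2 hk, Scheme.IdealSheafData.ideal_top]; rfl⟩
  · rintro ⟨h0, h1⟩ x
    obtain ⟨_, ⟨U, hU, rfl⟩, hxU, -⟩ :=
      X.isBasis_affineOpens.exists_subset_of_mem_open (Set.mem_univ x) isOpen_univ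
    have hU' : IsAffineOpen U := hU
    haveI := finite_of_isFT hM hft hU'
    have hval : ∀ W : X.affineOpens, (∀ k, k < r → Fitt.ideal Γ(X, W.1) Γ(M, W.1) k = ⊥) ∧
        (∀ k, r ≤ k → Fitt.ideal Γ(X, W.1) Γ(M, W.1) k = ⊤) := fun W =>
      ⟨fun k hk => by rw [← sheafIdeal_ideal hM hft, h0 k hk, Scheme.IdealSheafData.ideal_bot]; rfl,
       fun k hk => by rw [← sheafIdeal_ideal hM hft, h1 k hk, Scheme.IdealSheafData.ideal_top]; rfl⟩
    obtain ⟨f, hf, hfree, -⟩ := (locallyFree_iff r).2 (hval ⟨U, hU'⟩) (hU'.primeIdealOf ⟨x, hxU⟩).asIdeal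
    obtain ⟨n, ⟨e⟩⟩ := exists_free_nhd hM hU' f hfree
    have hxf : x ∈ X.basicOpen f := (mem_basicOpen_iff_notMem hU' hxU f).2 hf
    have hD : IsAffineOpen (X.basicOpen f) := hU'.basicOpen f
    obtain ⟨l⟩ := free_sections (M := M) hD le_rfl e
    let b : Module.Basis (Fin n) Γ(X, X.basicOpen f) Γ(M, X.basicOpen f) :=
      (Module.Basis.ofRepr l).reindex Equiv.ulift
    haveI : Module.Finite Γ(X, X.basicOpen f) Γ(M, X.basicOpen f) := Module.Finite.of_basis b
    haveI : Nontrivial Γ(X, X.basicOpen f) := (X.presheaf.germ _ x hxf).hom.domain_nontrivial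
    obtain rfl : n = r := by
      rcases lt_trichotomy n r with h | h | h
      · exact absurd ((ideal_eq_top_of_gen b b.span_eq le_rfl).symm.trans ((hval ⟨_, hD⟩).1 n h)) top_ne_bot
      · exact h
      · exact absurd (((hval ⟨_, hD⟩).2 r le_rfl).symm.trans (ideal_eq_bot_of_free _ r n b h)) top_ne_bot
    exact ⟨_, hxf, ⟨e⟩⟩

end Groth.Agent.FittX
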