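import Groth.Agent.FittX.Minors
import Groth.Prelude.Def_Fitting
import Mathlib.LinearAlgebra.StdBasis
import Mathlib.RingTheory.Finiteness.Defs
import Mathlib.Algebra.Module.FinitePresentation
import Mathlib.Logic.Equiv.Fin.Basic

/-!
# Fitting ideals: minors of one relation module
-/

universe u v w

open Module

namespace Groth.Agent.FittX

variable {R : Type u} [CommRing R] {M : Type v} [AddCommGroup M] [Module R M]

/-- The relations among a tuple. -/
noncomputable def rel {n : ℕ} (x : Fin n → M) : Submodule R (Fin n → R) :=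
  LinearMap.ker (Fintype.linearCombination R x)

theorem mem_rel {n : ℕ} {x : Fin n → M} {z : Fin n → R} : z ∈ rel (R := R) x ↔ ∑ i, z i • x i = 0 := by
  simp [rel, Fintype.linearCombination_apply]

theorem span_proj (n : ℕ) :
    Submodule.span R (Set.range fun i : Fin n => (LinearMap.proj i : Dual R (Fin n → R))) = ⊤ := by
  rw [eq_top_iff]
  intro φ _
  rw [Submodule.mem_span_range_iff_exists_fun]
  refine ⟨fun i => φ (Pi.single i 1), LinearMap.ext fun z => ?_⟩
  conv_rhs => rw [pi_eq_sum_univ' z, map_sum]
  simp [mul_comm]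

theorem ker_coprod_comp {F G : Type u} [AddCommGroup F] [Module R F] [AddCommGroup G] [Module R G]
    (p : F →ₗ[R] M) (γ : G →ₗ[R] F) :
    ∃ θ : (F × G) ≃ₗ[R] F × G, (LinearMap.ker (p.coprod (p ∘ₗ γ))).map (θ : F × G →ₗ[R] F × G) =
      (LinearMap.ker p).prod ⊤ := by
  let θ : (F × G) ≃ₗ[R] F × G :=
    LinearEquiv.ofLinear ((LinearMap.fst R F G + γ ∘ₗ LinearMap.snd R F G).prod (LinearMap.snd R F G))
      ((LinearMap.fst R F G - γ ∘ₗ LinearMap.snd R F G).prod (LinearMap.snd R F G))
      (by ext <;> simp) (by ext <;> simp)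
  refine ⟨θ, ?_⟩
  ext ⟨f, g⟩
  simp only [Submodule.mem_map, LinearMap.mem_ker, Submodule.mem_prod, Submodule.mem_top, and_true]
  constructor
  · rintro ⟨⟨a, b⟩, h, hab⟩
    obtain ⟨rfl, rfl⟩ : a + γ b = f ∧ b = g := by simpa [θ, Prod.ext_iff] using hab
    simpa using h
  · intro h
    exact ⟨(f - γ g, g), by simpa using h, by simp [θ]⟩

theorem minors_rel_append {n n' : ℕ} (x : Fin n → M) (x' : Fin n' → M)
    (hx : Submodule.span R (Set.range x) = ⊤) (N : ℕ) :
    minors N (rel (R := R) (Fin.append x x')) = minors (N - n') (rel (R := R) x) := by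
  classical
  choose c hc using fun i => Submodule.mem_span_range_iff_exists_fun R |>.1
    (hx ▸ Submodule.mem_top : x' i ∈ Submodule.span R (Set.range x))
  let γ : (Fin n' → R) →ₗ[R] (Fin n → R) := Fintype.linearCombination R c
  let p : (Fin n → R) →ₗ[R] M := Fintype.linearCombination R x
  have hγ : p ∘ₗ γ = Fintype.linearCombination R x' := by
    refine LinearMap.pi_ext' fun i => LinearMap.ext_ring ?_
    simpa [p, γ, Fintype.linearCombination_apply, Pi.single_apply] using hc i
  obtain ⟨θ, hθ⟩ := ker_coprod_comp p γ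
  rw [show rel (R := R) x = LinearMap.ker p from rfl, ← minors_prod_top N n' (LinearMap.ker p), ← hθ,
    minors_map_equiv, hγ]
  let e : ((Fin n → R) × (Fin n' → R)) ≃ₗ[R] (Fin (n + n') → R) :=
    (LinearEquiv.sumArrowLequivProdArrow (Fin n) (Fin n') R R).symm ≪≫ₗ
      LinearEquiv.funCongrLeft R R finSumFinEquiv.symm
  rw [← minors_map_equiv e]
  congr 1
  ext z
  have key : ∀ z, (p.coprod (Fintype.linearCombination R x')) (e.symm z) =
      Fintype.linearCombination R (Fin.append x x') z := fun z => by
    simp [p, e, Fintype.linearCombination_apply, Fin.sum_univ_add, LinearEquiv.funCongrLeft,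
      LinearEquiv.sumArrowLequivProdArrow, Equiv.sumArrowEquivProdArrow, LinearMap.funLeft]
  rw [Submodule.map_equiv_eq_comap_symm, Submodule.mem_comap, LinearMap.mem_ker]
  exact (Iff.of_eq (congrArg (· = 0) (key z).symm))

theorem minors_rel_comp_equiv {n m : ℕ} (σ : Fin n ≃ Fin m) (x : Fin m → M) (N : ℕ) :
    minors N (rel (R := R) (x ∘ σ)) = minors N (rel (R := R) x) := by
  rw [← minors_map_equiv (LinearEquiv.funCongrLeft R R σ.symm)]
  congr 1
  ext z
  rw [Submodule.map_equiv_eq_comap_symm, Submodule.mem_comap, mem_rel, mem_rel,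
    ← Equiv.sum_comp σ]
  simp [LinearEquiv.funCongrLeft, LinearMap.funLeft]

theorem minors_rel_eq {n n' : ℕ} (x : Fin n → M) (x' : Fin n' → M)
    (hx : Submodule.span R (Set.range x) = ⊤) (hx' : Submodule.span R (Set.range x') = ⊤) (k : ℕ) :
    minors (n - k) (rel (R := R) x) = minors (n' - k) (rel (R := R) x') := by
  let σ : Fin (n' + n) ≃ Fin (n + n') :=
    finSumFinEquiv.symm.trans ((Equiv.sumComm _ _).trans finSumFinEquiv)
  have hσ : Fin.append x x' ∘ σ = Fin.append x' x := by
    funext i
    induction i using Fin.addCases with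
    | left i => simp [σ]
    | right i => simp [σ]
  have h1 := minors_rel_append x x' hx (n + n' - k)
  have h2 := minors_rel_append x' x hx' (n + n' - k)
  rw [← hσ, minors_rel_comp_equiv] at h2
  rw [show n - k = n + n' - k - n' by omega, ← h1, h2]
  congr 1
  omega

/-- Fitting ideals are the minors of the relations among any generating tuple. -/
theorem ideal_eq_minors {n : ℕ} (x : Fin n → M) (hx : Submodule.span R (Set.range x) = ⊤) (k : ℕ) :
    Fitt.ideal R M k = minors (n - k) (rel (R := R) x) := by
  classical
  apply le_antisymm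
  · rw [Fitt.ideal, Ideal.span_le]
    rintro d ⟨n', x', a, hx', ha, rfl⟩
    rw [SetLike.mem_coe, minors_rel_eq x x' hx hx' k]
    let s : Finset (Fin n') := Finset.univ.filter fun i => (i : ℕ) < n' - k
    have hd : a.det = minor (fun j => (LinearMap.proj j : Dual R (Fin n' → R))) (fun i => a i) := rfl
    rw [hd]
    refine minor_mem_of_card _ _ s ?_ fun i hi => mem_rel.2 (ha i (Finset.mem_filter.1 hi).2)
    have : (Finset.univ : Finset (Fin (n' - k))).map (Fin.castLEEmb (by omega)) ⊆ s := by
      intro i hi
      obtain ⟨j, -, rfl⟩ := Finset.mem_map.1 hi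
      simp [s]
    simpa using Finset.card_le_card this
  · have hm : n - k ≤ n := Nat.sub_le n k
    conv_lhs => rw [← Submodule.span_eq (rel (R := R) x)]
    refine minors_le_of_span (span_proj n) fun φ hφ z hz => ?_
    choose e he using hφ
    simp only at he
    by_cases hinj : Function.Injective e
    · let t : Set (Fin n) := (Set.range e)ᶜ
      let g : Fin (n - k) ⊕ ↥t ≃ Fin n :=
        ((Equiv.ofInjective e hinj).sumCongr (Equiv.refl _)).trans (Equiv.Set.sumCompl (Set.range e))
      have hcard : Fintype.card ↥t = n - (n - k) := by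
        have := Fintype.card_congr g
        simp only [Fintype.card_sum, Fintype.card_fin] at this
        omega
      let h : Fin (n - k) ⊕ ↥t ≃ Fin n :=
        ((Equiv.refl _).sumCongr (Fintype.equivFinOfCardEq hcard)).trans
          (finSumFinEquiv.trans (finCongr (by omega)))
      let B : Matrix (Fin (n - k) ⊕ ↥t) (Fin (n - k) ⊕ ↥t) R :=
        Matrix.fromBlocks (Matrix.of fun b a => z b (e a)) (Matrix.of fun b c => z b c) 0 1
      let A : Matrix (Fin n) (Fin n) R := B.submatrix h.symm g.symm
      have hA : A.det ∈ Fitt.ideal R M k := by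
        refine Ideal.subset_span ⟨n, x, A, hx, fun i hi => ?_, rfl⟩
        have hi' : h.symm i = Sum.inl ⟨i, hi⟩ := by
          rw [Equiv.symm_apply_eq]
          simp [h, finSumFinEquiv, finCongr]
        rw [← mem_rel.1 (hz ⟨i, hi⟩)]
        refine Finset.sum_congr rfl fun j _ => ?_
        obtain ⟨j', rfl⟩ := g.surjective j
        have hA' : A i (g j') = B (Sum.inl ⟨i, hi⟩) j' := by
          simp only [A, Matrix.submatrix_apply, hi', Equiv.symm_apply_apply]
        rw [hA']
        rcases j' with j' | j'
        · rw [show g (Sum.inl j') = e j' from rfl]; simp [B]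
        · rw [show g (Sum.inr j') = (j' : Fin n) from rfl]; simp [B]
      have hdet : A.det = ((Equiv.Perm.sign (g.symm.trans h) : ℤˣ) : ℤ) * minor φ z := by
        have hsub : A = (B.submatrix h.symm h.symm).submatrix id (g.symm.trans h) := by
          ext i j; simp [A]
        rw [hsub, Matrix.det_permute', Matrix.det_submatrix_equiv_self]
        simp only [B, Matrix.det_fromBlocks_zero₂₁, Matrix.det_one, mul_one]
        congr 2
        ext b a
        simp [← he a]
      rw [hdet] at hA
      rcases Int.units_eq_one_or (Equiv.Perm.sign (g.symm.trans h)) with hs | hs <;>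
        simpa [hs] using hA
    · obtain ⟨a, a', haa, hne⟩ := Function.not_injective_iff.1 hinj
      rw [minor, Matrix.det_zero_of_column_eq hne (fun b => by simp [← he, haa])]
      exact Ideal.zero_mem _

variable {M' : Type w} [AddCommGroup M'] [Module R M']

theorem exists_gen (R : Type u) [CommRing R] (M : Type v) [AddCommGroup M] [Module R M] [Module.Finite R M] :
    ∃ (n : ℕ) (x : Fin n → M), Submodule.span R (Set.range x) = ⊤ :=
  Module.Finite.exists_fin

theorem ideal_le_of_surjective [Module.Finite R M] (f : M →ₗ[R] M') (hf : Function.Surjective f)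
    (k : ℕ) : Fitt.ideal R M k ≤ Fitt.ideal R M' k := by
  obtain ⟨n, x, hx⟩ := exists_gen R M
  have hx' : Submodule.span R (Set.range (f ∘ x)) = ⊤ := by
    rw [Set.range_comp, Submodule.span_image, hx, Submodule.map_top, LinearMap.range_eq_top.2 hf]
  rw [ideal_eq_minors x hx, ideal_eq_minors _ hx']
  refine minors_mono fun z hz => mem_rel.2 ?_
  simpa [map_sum] using congrArg f (mem_rel.1 hz)

theorem ideal_congr [Module.Finite R M] (e : M ≃ₗ[R] M') (k : ℕ) :
    Fitt.ideal R M k = Fitt.ideal R M' k := by
  have : Module.Finite R M' := Module.Finite.equiv e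
  exact le_antisymm (ideal_le_of_surjective e.toLinearMap e.surjective k)
    (ideal_le_of_surjective e.symm.toLinearMap e.symm.surjective k)

theorem ideal_eq_top_of_gen {n k : ℕ} (x : Fin n → M) (hx : Submodule.span R (Set.range x) = ⊤)
    (h : n ≤ k) : Fitt.ideal R M k = ⊤ := by
  rw [ideal_eq_minors x hx, Nat.sub_eq_zero_of_le h, minors_zero]

theorem ideal_mono [Module.Finite R M] {k l : ℕ} (h : k ≤ l) :
    Fitt.ideal R M k ≤ Fitt.ideal R M l := by
  obtain ⟨n, x, hx⟩ := exists_gen R M
  rw [ideal_eq_minors x hx, ideal_eq_minors x hx]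
  exact minors_antitone (by omega) _

theorem ideal_fg [Module.FinitePresentation R M] (k : ℕ) : (Fitt.ideal R M k).FG := by
  classical
  obtain ⟨n, x, hx⟩ := exists_gen R M
  have hfg : (rel (R := R) x).FG := Module.FinitePresentation.fg_ker _ (by
    rw [← LinearMap.range_eq_top, Fintype.range_linearCombination, hx])
  obtain ⟨S, hS⟩ := hfg
  rw [ideal_eq_minors x hx]
  let T : Finset R := (Finset.univ : Finset ((Fin (n - k) → Fin n) × (Fin (n - k) → S))).image
    fun p => minor (fun a => (LinearMap.proj (p.1 a) : Dual R (Fin n → R))) (fun b => (p.2 b).1)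
  refine ⟨T, le_antisymm (Ideal.span_le.2 fun d hd => ?_) ?_⟩
  · obtain ⟨p, -, rfl⟩ := Finset.mem_image.1 (Finset.mem_coe.1 hd)
    exact minor_mem _ fun b => hS ▸ Submodule.subset_span (p.2 b).2
  · conv_lhs => rw [← hS]
    refine minors_le_of_span (span_proj n) fun φ hφ z hz => ?_
    choose e he using hφ
    refine Ideal.subset_span (Finset.mem_coe.2 (Finset.mem_image.2 ⟨(e, fun b => ⟨z b, hz b⟩), Finset.mem_univ _, ?_⟩))
    exact congrArg (fun ψ => minor ψ z) (funext he)

theorem ker_baseChange {S : Type v} [CommRing S] [Algebra R S] {n : ℕ} {M : Type v} [AddCommGroup M]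
    [Module R M] {M' : Type v} [AddCommGroup M'] [Module R M'] [Module S M'] [IsScalarTower R S M']
    {f : M →ₗ[R] M'} (h : IsBaseChange S f) (x : Fin n → M) (hx : Submodule.span R (Set.range x) = ⊤) :
    rel (R := S) (f ∘ x) ≤
      Submodule.span S ((fun z : Fin n → R => fun i => algebraMap R S (z i)) '' (rel (R := R) x : Set _)) := by
  set L := Submodule.span S ((fun z : Fin n → R => fun i => algebraMap R S (z i)) '' (rel (R := R) x : Set _))
    with hL
  let q : (Fin n → R) →ₗ[R] (Fin n → S) ⧸ L :=
    (L.mkQ.restrictScalars R) ∘ₗ (Algebra.linearMap R S).compLeft (Fin n)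
  have hq : LinearMap.ker (Fintype.linearCombination R x) ≤ LinearMap.ker q := by
    intro z hz
    simp only [q, LinearMap.mem_ker, LinearMap.comp_apply, LinearMap.restrictScalars_apply,
      Submodule.mkQ_apply, Submodule.Quotient.mk_eq_zero]
    exact Submodule.subset_span ⟨z, hz, rfl⟩
  have hp : Function.Surjective (Fintype.linearCombination R x) := by
    rw [← LinearMap.range_eq_top, Fintype.range_linearCombination, hx]
  let g : M →ₗ[R] (Fin n → S) ⧸ L :=
    (LinearMap.ker (Fintype.linearCombination R x)).liftQ q hq ∘ₗ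
      (LinearMap.quotKerEquivOfSurjective _ hp).symm.toLinearMap
  have hgx : ∀ i, g (x i) = L.mkQ (Pi.single i 1) := by
    intro i
    have h1 : (LinearMap.quotKerEquivOfSurjective _ hp).symm (x i) =
        Submodule.Quotient.mk (Pi.single i (1 : R)) := by
      rw [LinearEquiv.symm_apply_eq]
      simp [Fintype.linearCombination_apply, Pi.single_apply]
    simp only [g, LinearMap.comp_apply, LinearEquiv.coe_coe, h1, Submodule.liftQ_apply, q,
      LinearMap.restrictScalars_apply]
    congr 1
    ext j
    by_cases hj : j = i <;> simp [Pi.single_apply, hj, LinearMap.compLeft]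
  intro w hw
  have key : (h.lift g) (∑ i, w i • f (x i)) = L.mkQ w := by
    conv_rhs => rw [pi_eq_sum_univ' w]
    simp [map_sum, map_smul, h.lift_eq, hgx]
  rw [show ∑ i, w i • f (x i) = 0 from mem_rel.1 hw, map_zero] at key
  exact (Submodule.Quotient.mk_eq_zero L).1 key.symm

theorem span_baseChange {S : Type v} [CommRing S] [Algebra R S] {n : ℕ} {M : Type v} [AddCommGroup M]
    [Module R M] {M' : Type v} [AddCommGroup M'] [Module R M'] [Module S M'] [IsScalarTower R S M']
    {f : M →ₗ[R] M'} (h : IsBaseChange S f) (x : Fin n → M) (hx : Submodule.span R (Set.range x) = ⊤) :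
    Submodule.span S (Set.range (f ∘ x)) = ⊤ := by
  rw [eq_top_iff]
  intro y hy'
  clear hy'
  induction y using h.inductionOn with
  | zero => exact Submodule.zero_mem _
  | tmul m =>
    have hm : f m ∈ (Submodule.span R (Set.range x)).map f := ⟨m, hx ▸ trivial, rfl⟩
    rw [← Submodule.span_image, ← Set.range_comp] at hm
    exact Submodule.span_le_restrictScalars R S _ hm
  | smul s y hy => exact Submodule.smul_mem _ s hy
  | add a b ha hb => exact Submodule.add_mem _ ha hb

/-- Fitting ideals commute with base change. -/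
theorem ideal_baseChange {S : Type v} [CommRing S] [Algebra R S] {M : Type v} [AddCommGroup M]
    [Module R M] [Module.Finite R M] {M' : Type v} [AddCommGroup M'] [Module R M'] [Module S M']
    [IsScalarTower R S M'] {f : M →ₗ[R] M'} (h : IsBaseChange S f) (k : ℕ) :
    Fitt.ideal S M' k = (Fitt.ideal R M k).map (algebraMap R S) := by
  obtain ⟨n, x, hx⟩ := exists_gen R M
  rw [ideal_eq_minors x hx, ideal_eq_minors _ (span_baseChange h x hx)]
  apply le_antisymm
  · refine le_trans (minors_mono (ker_baseChange h x hx)) ?_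
    refine minors_le_of_span (span_proj n) fun φ hφ z hz => ?_
    choose e he using hφ
    choose y hy hyz using hz
    have : minor φ z = algebraMap R S (minor (fun a => (LinearMap.proj (e a) : Dual R (Fin n → R))) y) := by
      rw [minor, minor, RingHom.map_det]
      congr 1
      ext b a
      simp [← he a, ← hyz b]
    rw [this]
    exact Ideal.mem_map_of_mem _ (minor_mem _ hy)
  · rw [Ideal.map_le_iff_le_comap]
    conv_lhs => rw [← Submodule.span_eq (rel (R := R) x)]
    refine minors_le_of_span (span_proj n) fun φ hφ z hz => ?_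
    choose e he using hφ
    rw [Ideal.mem_comap, minor, RingHom.map_det]
    have := minor_mem (K := rel (R := S) (f ∘ x))
      (fun a => (LinearMap.proj (e a) : Dual S (Fin n → S)))
      (z := fun b i => algebraMap R S (z b i)) (fun b => mem_rel.2 (by
        simpa [map_sum] using congrArg f (mem_rel.1 (hz b))))
    rw [minor] at this
    convert this using 2
    ext b a
    simp [← he a]

end Groth.Agent.FittX
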