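import Groth.Agent.FittX.Crit
import Mathlib.LinearAlgebra.Dimension.Finrank
import Mathlib.RingTheory.Nilpotent.Defs

/-!
# Locally free modules through Fitting ideals
-/

universe u

open Module

namespace Groth.Agent.FittX

variable {R : Type u} [CommRing R] {M : Type u} [AddCommGroup M] [Module R M]

theorem ideal_annihilator [Module.Finite R M] : Fitt.ideal R M 0 ≤ Module.annihilator R M := by
  obtain ⟨n, x, hx⟩ := exists_gen R M
  rw [ideal_eq_minors x hx, minors_rel_eq_span, Ideal.span_le]
  rintro d ⟨z, e, hz, rfl⟩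
  by_cases he : Function.Injective e
  · rw [SetLike.mem_coe, Module.mem_annihilator]
    intro y
    obtain ⟨g, hg⟩ := exists_span_compl_eq (k := 0) (R := R) x he
    rw [Set.range_eq_empty g, Submodule.span_empty, le_bot_iff] at hg
    have hy : y ∈ Submodule.span R (Set.range x) := hx ▸ trivial
    induction hy using Submodule.span_induction with
    | mem y hy =>
      obtain ⟨i, rfl⟩ := hy
      exact (Submodule.mem_bot R).1 (hg ▸ cminor_smul_mem hz e i)
    | zero => simp
    | add a b _ _ ha hb => rw [smul_add, ha, hb, add_zero]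
    | smul c a _ ha => rw [smul_comm, ha, smul_zero]
  · rw [cminor_eq_zero z he]; exact Ideal.zero_mem _

/-- `k`-generated with vanishing `k-1`-st Fitting ideal: the generators are a basis. -/
theorem linearIndependent_of_ideal_eq_bot {k : ℕ} (g : Fin k → M)
    (hg : Submodule.span R (Set.range g) = ⊤) (h : ∀ j, j < k → Fitt.ideal R M j = ⊥) :
    LinearIndependent R g := by
  rw [Fintype.linearIndependent_iff]
  intro z hz i
  have h0 := h (k - 1) (by have := i.isLt; omega)
  rw [ideal_eq_minors g hg, show k - (k - 1) = 1 by have := i.isLt; omega] at h0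
  have : minor (fun _ : Fin 1 => (LinearMap.proj i : Dual R (Fin k → R))) (fun _ => z) = 0 := by
    rw [← Ideal.mem_bot, ← h0]
    exact minor_mem _ fun _ => mem_rel.2 hz
  simpa [minor] using this

theorem ideal_map_away [Module.Finite R M] (k : ℕ) (f : R) :
    Fitt.ideal (Localization.Away f) (LocalizedModule (Submonoid.powers f) M) k =
      (Fitt.ideal R M k).map (algebraMap R (Localization.Away f)) :=
  ideal_baseChange (isBaseChange_mkLinearMap M (Submonoid.powers f)) k

theorem eq_bot_of_locally (I : Ideal R)
    (h : ∀ (p : Ideal R) [p.IsPrime], ∃ f : R, f ∉ p ∧ I.map (algebraMap R (Localization.Away f)) = ⊥) :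
    I = ⊥ := by
  rw [eq_bot_iff]
  intro a ha
  by_contra hne
  have hann : Submodule.annihilator (Submodule.span R {a}) ≠ ⊤ := by
    intro htop
    have h1 : (1 : R) ∈ Submodule.annihilator (Submodule.span R {a}) := by rw [htop]; exact Submodule.mem_top
    exact hne (by simpa [Submodule.mem_annihilator_span_singleton] using h1)
  obtain ⟨m, hm, hle⟩ := Ideal.exists_le_maximal _ hann
  obtain ⟨f, hf, hI⟩ := h m
  have h0 : algebraMap R (Localization.Away f) a = 0 := by
    rw [← Ideal.mem_bot, ← hI]; exact Ideal.mem_map_of_mem _ ha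
  obtain ⟨⟨c, n, rfl⟩, hc⟩ := (IsLocalization.map_eq_zero_iff (Submonoid.powers f) _ a).1 h0
  exact hf (hm.isPrime.mem_of_pow_mem n
    (hle (Submodule.mem_annihilator_span_singleton _ _ |>.2 hc)))

theorem locallyFree_iff [Module.Finite R M] (r : ℕ) :
    (∀ (p : Ideal R) [p.IsPrime], ∃ f : R, f ∉ p ∧
      Module.Free (Localization.Away f) (LocalizedModule (Submonoid.powers f) M) ∧
        Module.finrank (Localization.Away f) (LocalizedModule (Submonoid.powers f) M) = r) ↔
    ((∀ k, k < r → Fitt.ideal R M k = ⊥) ∧ (∀ k, r ≤ k → Fitt.ideal R M k = ⊤)) := by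
  have hfin : ∀ f : R, Module.Finite (Localization.Away f) (LocalizedModule (Submonoid.powers f) M) :=
    fun f => Module.Finite.of_isLocalizedModule (Submonoid.powers f)
      (LocalizedModule.mkLinearMap (Submonoid.powers f) M)
  constructor
  · intro h
    have hb : ∀ (p : Ideal R) [p.IsPrime], ∃ f : R, f ∉ p ∧
        Nonempty (Basis (Fin r) (Localization.Away f) (LocalizedModule (Submonoid.powers f) M)) := by
      intro p _
      obtain ⟨f, hf, hfree, hrk⟩ := h p
      have := hfin f
      have : Nontrivial (Localization.Away f) :=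
        (IsLocalization.isPrime_of_isPrime_disjoint (Submonoid.powers f) (Localization.Away f) p
          ‹_› (by rwa [Ideal.disjoint_powers_iff_notMem _ (Ideal.IsPrime.isRadical ‹_›)])).ne_top
            |> fun h => (not_subsingleton_iff_nontrivial.1 fun _ => h (Subsingleton.elim _ _))
      exact ⟨f, hf, ⟨(Module.finBasis _ _).reindex (finCongr hrk)⟩⟩
    refine ⟨fun k hk => eq_bot_of_locally _ fun p _ => ?_, fun k hk => ?_⟩
    · obtain ⟨f, hf, ⟨b⟩⟩ := hb p
      have := hfin f
      exact ⟨f, hf, (ideal_map_away k f).symm.trans (ideal_eq_bot_of_free _ k r b hk)⟩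
    · by_contra hne
      obtain ⟨m, hm, hle⟩ := Ideal.exists_le_maximal _ hne
      obtain ⟨f, hf, ⟨b⟩⟩ := hb m
      refine (not_le_iff_away M r m).2 ⟨f, hf, b, b.span_eq⟩ ((ideal_mono hk).trans hle)
  · rintro ⟨h0, h1⟩ p hp
    have : ¬ Fitt.ideal R M r ≤ p := by rw [h1 r le_rfl, top_le_iff]; exact hp.ne_top
    obtain ⟨f, hf, g, hg⟩ := (not_le_iff_away M r p).1 this
    have := hfin f
    have : Nontrivial (Localization.Away f) :=
      (IsLocalization.isPrime_of_isPrime_disjoint (Submonoid.powers f) (Localization.Away f) p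
        hp (by rwa [Ideal.disjoint_powers_iff_notMem _ hp.isRadical])).ne_top
          |> fun h => (not_subsingleton_iff_nontrivial.1 fun _ => h (Subsingleton.elim _ _))
    have hli : LinearIndependent (Localization.Away f) g :=
      linearIndependent_of_ideal_eq_bot g hg fun j hj => by rw [ideal_map_away, h0 j hj, Ideal.map_bot]
    let b := Basis.mk hli hg.ge
    exact ⟨f, hf, Module.Free.of_basis b, by rw [Module.finrank_eq_card_basis b, Fintype.card_fin]⟩

end Groth.Agent.FittX
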