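import Mathlib.LinearAlgebra.Matrix.Determinant.Basic
import Mathlib.LinearAlgebra.Dual.Lemmas
import Mathlib.LinearAlgebra.Alternating.Basic
import Mathlib.RingTheory.Ideal.Span

/-!
# Determinantal ideals of a submodule, without coordinates

`minors m K` is the ideal generated by the determinants `det (φ a (z b))` with `z b ∈ K` and `φ a` linear
forms on the ambient module.
-/

universe u v w

open Module

namespace Groth.Agent.FittX

section multilinear

variable {R : Type u} [CommRing R] {ι : Type*} [Finite ι] {M : Type v} [AddCommGroup M] [Module R M]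
  {N : Type w} [AddCommGroup N] [Module R N]

/-- A multilinear map evaluated on elements of `span S` lands in the span of its values on `S`. -/
theorem multilinear_mem_of_span (f : MultilinearMap R (fun _ : ι => M) N) (S : Set M) (I : Submodule R N)
    (h : ∀ s : ι → M, (∀ i, s i ∈ S) → f s ∈ I) (z : ι → M) (hz : ∀ i, z i ∈ Submodule.span R S) :
    f z ∈ I := by
  classical
  have := Fintype.ofFinite ι
  suffices H : ∀ (t : Finset ι) (z : ι → M), (∀ i, i ∉ t → z i ∈ S) → (∀ i, z i ∈ Submodule.span R S) →
      f z ∈ I from H Finset.univ z (by simp) hz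
  intro t
  induction t using Finset.induction with
  | empty => exact fun z h1 _ => h z (fun i => h1 i (by simp))
  | insert j t hj ih =>
    intro z h1 h2
    have key : ∀ y ∈ Submodule.span R S, f (Function.update z j y) ∈ I := by
      intro y hy
      induction hy using Submodule.span_induction with
      | mem y hy =>
        refine ih _ (fun i hi => ?_) (fun i => ?_)
        · rcases eq_or_ne i j with rfl | hij
          · simpa using hy
          · rw [Function.update_of_ne hij]; exact h1 i (by simp [hij, hi])
        · rcases eq_or_ne i j with rfl | hij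
          · simpa using Submodule.subset_span hy
          · rw [Function.update_of_ne hij]; exact h2 i
      | zero => rw [f.map_update_zero]; exact I.zero_mem
      | add a b _ _ ha hb => rw [f.map_update_add]; exact I.add_mem ha hb
      | smul c a _ ha => rw [f.map_update_smul]; exact I.smul_mem c ha
    simpa using key (z j) (h2 j)

end multilinear

variable {R : Type u} [CommRing R] {F : Type v} [AddCommGroup F] [Module R F]
  {G : Type w} [AddCommGroup G] [Module R G]

/-- `z ↦ det (φ a (z b))`. -/
def minor {m : ℕ} (φ : Fin m → Dual R F) (z : Fin m → F) : R :=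
  (Matrix.of fun b a => φ a (z b)).det

/-- The ideal of `m × m` minors of a submodule. -/
def minors (m : ℕ) (K : Submodule R F) : Ideal R :=
  Ideal.span {d | ∃ (φ : Fin m → Dual R F) (z : Fin m → F), (∀ b, z b ∈ K) ∧ d = minor φ z}

theorem minor_mem {m : ℕ} {K : Submodule R F} (φ : Fin m → Dual R F) {z : Fin m → F}
    (hz : ∀ b, z b ∈ K) : minor φ z ∈ minors m K :=
  Ideal.subset_span ⟨φ, z, hz, rfl⟩

theorem minors_zero (K : Submodule R F) : minors 0 K = ⊤ := by
  rw [Ideal.eq_top_iff_one]
  have h := minor_mem (K := K) (m := 0) (fun a => a.elim0) (z := fun b => b.elim0) (fun b => b.elim0)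
  simpa [minor] using h

theorem minors_mono {m : ℕ} {K L : Submodule R F} (h : K ≤ L) : minors m K ≤ minors m L :=
  Ideal.span_le.2 fun _ ⟨φ, z, hz, hd⟩ => hd ▸ minor_mem φ fun b => h (hz b)

theorem minors_map_le {m : ℕ} (g : F →ₗ[R] G) (K : Submodule R F) : minors m (K.map g) ≤ minors m K := by
  rw [minors, Ideal.span_le]
  rintro d ⟨φ, z, hz, rfl⟩
  choose y hy hyz using hz
  have : minor φ z = minor (fun a => φ a ∘ₗ g) y := by simp [minor, hyz]
  rw [SetLike.mem_coe, this]
  exact minor_mem _ hy

theorem minors_map_of_leftInverse {m : ℕ} (g : F →ₗ[R] G) (r : G →ₗ[R] F) (h : r ∘ₗ g = LinearMap.id)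
    (K : Submodule R F) : minors m (K.map g) = minors m K := by
  refine le_antisymm (minors_map_le g K) ?_
  conv_lhs => rw [show K = (K.map g).map r by rw [← Submodule.map_comp, h, Submodule.map_id]]
  exact minors_map_le r _

theorem minors_map_equiv {m : ℕ} (e : F ≃ₗ[R] G) (K : Submodule R F) :
    minors m (K.map (e : F →ₗ[R] G)) = minors m K :=
  minors_map_of_leftInverse _ (e.symm : G →ₗ[R] F) (LinearMap.ext fun x => e.symm_apply_apply x) K

/-- The multilinear map `z ↦ minor φ z`. -/
noncomputable def minorMap {m : ℕ} (φ : Fin m → Dual R F) : MultilinearMap R (fun _ : Fin m => F) R :=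
  ((Matrix.detRowAlternating (n := Fin m) (R := R)).toMultilinearMap).compLinearMap
    fun _ => LinearMap.pi φ

theorem minorMap_apply {m : ℕ} (φ : Fin m → Dual R F) (z : Fin m → F) : minorMap φ z = minor φ z := rfl

/-- The multilinear map `φ ↦ minor φ z`. -/
noncomputable def minorMapDual {m : ℕ} (z : Fin m → F) : MultilinearMap R (fun _ : Fin m => Dual R F) R :=
  ((Matrix.detRowAlternating (n := Fin m) (R := R)).toMultilinearMap).compLinearMap
    fun _ => LinearMap.pi fun b => LinearMap.applyₗ (z b)

theorem minorMapDual_apply {m : ℕ} (φ : Fin m → Dual R F) (z : Fin m → F) :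
    minorMapDual z φ = minor φ z := by
  rw [minor, ← Matrix.det_transpose]
  rfl

/-- Minors may be computed on generators of the submodule and of the dual. -/
theorem minors_le_of_span {m : ℕ} {S : Set F} {D : Set (Dual R F)} (hD : Submodule.span R D = ⊤)
    {I : Ideal R}
    (h : ∀ φ : Fin m → Dual R F, (∀ a, φ a ∈ D) → ∀ z : Fin m → F, (∀ b, z b ∈ S) → minor φ z ∈ I) :
    minors m (Submodule.span R S) ≤ I := by
  rw [minors, Ideal.span_le]
  rintro d ⟨φ, z, hz, rfl⟩
  refine (minorMap_apply φ z) ▸ multilinear_mem_of_span (minorMap φ) S I (fun s hs => ?_) z hz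
  rw [minorMap_apply, ← minorMapDual_apply]
  refine multilinear_mem_of_span (minorMapDual s) D I (fun ψ hψ => ?_) φ (fun a => hD ▸ trivial)
  rw [minorMapDual_apply]
  exact h ψ hψ s hs

/-- Laplace: if at least `m` of the vectors lie in `K`, the minor is in `minors m K`. -/
theorem minor_mem_of_card : ∀ {N m : ℕ} {K : Submodule R F} (φ : Fin N → Dual R F) (z : Fin N → F)
    (s : Finset (Fin N)), m ≤ s.card → (∀ b ∈ s, z b ∈ K) → minor φ z ∈ minors m K
  | 0, m, K, φ, z, s, hm, _ => by
    obtain rfl : m = 0 := by simpa using hm.trans s.card_le_univ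
    simp [minors_zero]
  | N + 1, m, K, φ, z, s, hm, hz => by
    rcases (show m ≤ N + 1 from hm.trans (by simpa using s.card_le_univ)).lt_or_eq with hlt | rfl
    · obtain ⟨s', hs', hcard⟩ := Finset.exists_subset_card_eq hm
      obtain ⟨b₀, hb₀⟩ : ∃ b, b ∉ s' := by
        by_contra! hall
        rw [Finset.eq_univ_iff_forall.2 hall] at hcard
        simp at hcard
        omega
      rw [minor, Matrix.det_succ_row _ b₀]
      refine sum_mem fun a _ => Ideal.mul_mem_left _ _ ?_
      refine minor_mem_of_card (φ ∘ a.succAbove) (z ∘ b₀.succAbove)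
        (s'.preimage b₀.succAbove Fin.succAbove_right_injective.injOn) ?_ ?_
      · rw [Finset.card_preimage, Finset.filter_true_of_mem, hcard]
        exact fun x hx => Fin.exists_succAbove_eq (fun hxb => hb₀ (hxb ▸ hx))
      · intro b hb
        exact hz _ (hs' (Finset.mem_preimage.1 hb))
    · have : s = Finset.univ := Finset.eq_univ_of_card _ (le_antisymm s.card_le_univ (by simpa using hm))
      exact minor_mem φ fun b => hz b (this ▸ Finset.mem_univ b)

theorem minors_antitone {m m' : ℕ} (h : m ≤ m') (K : Submodule R F) : minors m' K ≤ minors m K :=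
  Ideal.span_le.2 fun _ ⟨φ, z, hz, hd⟩ =>
    hd ▸ minor_mem_of_card φ z Finset.univ (by simpa using h) fun b _ => hz b

theorem minors_bot {m : ℕ} (hm : 0 < m) : minors m (⊥ : Submodule R F) = ⊥ := by
  rw [minors, Ideal.span_eq_bot]
  rintro d ⟨φ, z, hz, rfl⟩
  refine Matrix.det_eq_zero_of_row_eq_zero ⟨0, hm⟩ fun a => ?_
  simp [(Submodule.mem_bot R).1 (hz _)]

/-- Adding a free direct summand lowers the size of the minors. -/
theorem minors_prod_top (N j : ℕ) (K : Submodule R F) :
    minors N (K.prod (⊤ : Submodule R (Fin j → R))) = minors (N - j) K := by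
  classical
  apply le_antisymm
  · have hspan : K.prod (⊤ : Submodule R (Fin j → R)) = Submodule.span R
        ((LinearMap.inl R F (Fin j → R) '' K) ∪
          Set.range fun i : Fin j => ((0 : F), Pi.single i (1 : R))) := by
      rw [Submodule.span_union, Submodule.span_image, Submodule.span_eq]
      have : (Set.range fun i : Fin j => ((0 : F), Pi.single i (1 : R))) =
          LinearMap.inr R F (Fin j → R) '' Set.range fun i : Fin j => Pi.single i (1 : R) := by
        rw [← Set.range_comp]; rfl
      rw [this, Submodule.span_image]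
      rw [show Submodule.span R (Set.range fun i : Fin j => Pi.single (M := fun _ => R) i (1 : R)) = ⊤ by
        simpa [Pi.basisFun] using (Pi.basisFun R (Fin j)).span_eq]
      ext x
      simp only [Submodule.mem_prod, Submodule.mem_top, and_true, Submodule.mem_sup, Submodule.mem_map,
        LinearMap.inl_apply, LinearMap.inr_apply]
      constructor
      · exact fun hx => ⟨(x.1, 0), ⟨x.1, hx, rfl⟩, (0, x.2), ⟨x.2, trivial, rfl⟩, by simp⟩
      · rintro ⟨_, ⟨y, hy, rfl⟩, _, ⟨t, -, rfl⟩, rfl⟩; simpa using hy
    rw [hspan]
    refine minors_le_of_span (D := Set.univ) (Submodule.span_univ) fun φ _ z hz => ?_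
    have hK : minors (N - j) (K.map (LinearMap.inl R F (Fin j → R))) = minors (N - j) K :=
      minors_map_of_leftInverse _ (LinearMap.fst R F _) (LinearMap.fst_comp_inl R F _) K
    rw [← hK]
    by_cases hinj : Function.Injective z
    · let s : Finset (Fin N) := Finset.univ.filter fun b => z b ∈ LinearMap.inl R F (Fin j → R) '' K
      refine minor_mem_of_card φ z s ?_ fun b hb => (Finset.mem_filter.1 hb).2
      have hc : (sᶜ).card ≤ j := by
        have : (sᶜ).image z ⊆ Finset.univ.image fun i : Fin j => ((0 : F), Pi.single i (1 : R)) := by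
          intro y hy
          obtain ⟨b, hb, rfl⟩ := Finset.mem_image.1 hy
          rcases hz b with h | ⟨i, hi⟩
          · have h1 : b ∈ s := Finset.mem_filter.2 ⟨Finset.mem_univ b, h⟩
            exact absurd h1 (Finset.mem_compl.1 hb)
          · exact Finset.mem_image.2 ⟨i, Finset.mem_univ _, hi⟩
        have h2 := (Finset.card_le_card this).trans Finset.card_image_le
        rwa [Finset.card_image_of_injective _ hinj, Finset.card_univ, Fintype.card_fin] at h2
      rw [Finset.card_compl, Fintype.card_fin] at hc
      omega
    · obtain ⟨b, b', hbb, hne⟩ := Function.not_injective_iff.1 hinj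
      rw [minor, Matrix.det_zero_of_row_eq hne (funext fun a => congrArg (φ a) hbb)]
      exact Ideal.zero_mem _
  · rcases Nat.le_total N j with h | h
    · rw [show N - j = 0 by omega, minors_zero, top_le_iff, Ideal.eq_top_iff_one]
      have h1 := minor_mem (m := N) (K := K.prod (⊤ : Submodule R (Fin j → R)))
        (fun a => (LinearMap.proj (Fin.castLE h a)) ∘ₗ LinearMap.snd R F (Fin j → R))
        (z := fun b => ((0 : F), Pi.single (Fin.castLE h b) (1 : R))) (fun b => by simp)
      rw [minor] at h1
      convert h1
      symm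
      rw [show (Matrix.of _ : Matrix (Fin N) (Fin N) R) = 1 from ?_, Matrix.det_one]
      ext b a
      simp [Matrix.one_apply, Pi.single_apply, (Fin.castLE_injective h).eq_iff, eq_comm]
    · obtain ⟨m, rfl⟩ : ∃ m, N = m + j := ⟨N - j, by omega⟩
      rw [show m + j - j = m by omega, minors, Ideal.span_le]
      rintro d ⟨φ, z, hz, rfl⟩
      let φ' : Fin (m + j) → Dual R (F × (Fin j → R)) :=
        Fin.append (fun a => φ a ∘ₗ LinearMap.fst R F _)
          (fun i => LinearMap.proj i ∘ₗ LinearMap.snd R F (Fin j → R))
      let z' : Fin (m + j) → F × (Fin j → R) :=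
        Fin.append (fun b => (z b, 0)) (fun i => (0, Pi.single i 1))
      have hz' : ∀ b, z' b ∈ K.prod (⊤ : Submodule R (Fin j → R)) := fun b => by
        induction b using Fin.addCases with
        | left b => simp [z', hz b]
        | right b => simp [z']
      have := minor_mem φ' hz'
      convert (SetLike.mem_coe).2 this using 1
      rw [minor, minor, ← Matrix.det_submatrix_equiv_self finSumFinEquiv (Matrix.of fun b a => φ' a (z' b))]
      rw [show (Matrix.of fun b a => φ' a (z' b)).submatrix finSumFinEquiv finSumFinEquiv =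
          Matrix.fromBlocks (Matrix.of fun b a => φ a (z b)) 0 0 1 from ?_,
        Matrix.det_fromBlocks_zero₁₂, Matrix.det_one, mul_one]
      ext (b | b) (a | a) <;> simp [φ', z', Matrix.one_apply, Pi.single_apply, eq_comm]

end Groth.Agent.FittX
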