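import Groth.Agent.FittX.Crit

/-!
# Fitting ideals of a product
-/

universe u

open Module

namespace Groth.Agent.FittX

variable {R : Type u} [CommRing R]

/-- A block diagonal matrix of scalars with non-square blocks has zero determinant. -/
theorem det_eq_zero_of_card_ne {N : ℕ} (A : Matrix (Fin N) (Fin N) R) (s t : Finset (Fin N))
    (h0 : ∀ b a, (b ∈ s ∧ a ∉ t) ∨ (b ∉ s ∧ a ∈ t) → A b a = 0) (hne : s.card ≠ t.card) : A.det = 0 := by
  classical
  rw [Matrix.det_apply]
  refine Finset.sum_eq_zero fun σ _ => ?_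
  suffices h : ∃ i, A (σ i) i = 0 by
    obtain ⟨i, hi⟩ := h
    rw [Finset.prod_eq_zero (f := fun j => A (σ j) j) (Finset.mem_univ i) hi, smul_zero]
  by_contra! hall
  refine hne (Finset.card_bij (fun b _ => σ.symm b) (fun b hb => ?_) (fun _ _ _ _ h => σ.symm.injective h)
    (fun a ha => ⟨σ a, ?_, by simp⟩))
  · by_contra hcon
    exact hall (σ.symm b) (by rw [Equiv.apply_symm_apply]; exact h0 _ _ (Or.inl ⟨hb, hcon⟩))
  · by_contra hcon
    exact hall a (h0 _ _ (Or.inr ⟨hcon, ha⟩))

/-- The determinant of a block diagonal matrix of scalars is a product of minors of the blocks. -/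
theorem det_eq_mul_of_card_eq {N : ℕ} (A : Matrix (Fin N) (Fin N) R) (s t : Finset (Fin N))
    (h0 : ∀ b a, (b ∈ s ∧ a ∉ t) ∨ (b ∉ s ∧ a ∈ t) → A b a = 0) (m m' : ℕ) (hs : s.card = m)
    (ht : t.card = m) (hm : N - m = m') :
    ∃ (i j : Fin m → Fin N) (i' j' : Fin m' → Fin N) (c : R), (∀ x, i x ∈ s) ∧ (∀ x, j x ∈ t) ∧
      (∀ x, i' x ∉ s) ∧ (∀ x, j' x ∉ t) ∧
      A.det = c * ((A.submatrix i j).det * (A.submatrix i' j').det) := by
  classical
  have hs' : (sᶜ).card = m' := by rw [Finset.card_compl, Fintype.card_fin, hs, hm]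
  have ht' : (tᶜ).card = m' := by rw [Finset.card_compl, Fintype.card_fin, ht, hm]
  let g : ∀ u : Finset (Fin N), u.card = m → (uᶜ).card = m' → (Fin m ⊕ Fin m' ≃ Fin N) :=
    fun u h h' => ((u.equivFinOfCardEq h).symm.sumCongr (((uᶜ).equivFinOfCardEq h').symm.trans
      (Equiv.subtypeEquivRight fun x => Finset.mem_compl))).trans (Equiv.sumCompl _)
  let h := g s hs hs'
  let k := g t ht ht'
  refine ⟨fun x => h (.inl x), fun x => k (.inl x), fun x => h (.inr x), fun x => k (.inr x),
    ((Equiv.Perm.sign (k.symm.trans h) : ℤˣ) : ℤ), fun x => ?_, fun x => ?_, fun x => ?_, fun x => ?_, ?_⟩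
  · simp [h, g]
  · simp [k, g]
  · simp only [h, g, Equiv.trans_apply, Equiv.sumCongr_apply, Sum.map_inr, Equiv.sumCompl_apply_inr]
    exact Finset.mem_compl.1 (((sᶜ).equivFinOfCardEq hs').symm x).2
  · simp only [k, g, Equiv.trans_apply, Equiv.sumCongr_apply, Sum.map_inr, Equiv.sumCompl_apply_inr]
    exact Finset.mem_compl.1 (((tᶜ).equivFinOfCardEq ht').symm x).2
  · set B := A.submatrix h k with hB
    have hA : A = (B.submatrix h.symm h.symm).submatrix id (k.symm.trans h) := by
      ext b a; simp [hB]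
    have hblk : B = Matrix.fromBlocks (A.submatrix (fun x => h (.inl x)) fun x => k (.inl x)) 0 0
        (A.submatrix (fun x => h (.inr x)) fun x => k (.inr x)) := by
      ext (b | b) (a | a)
      · rfl
      · refine h0 _ _ (Or.inl ⟨by simp [h, g], ?_⟩)
        simp only [k, g, Equiv.trans_apply, Equiv.sumCongr_apply, Sum.map_inr, Equiv.sumCompl_apply_inr]
        exact Finset.mem_compl.1 (((tᶜ).equivFinOfCardEq ht').symm a).2
      · refine h0 _ _ (Or.inr ⟨?_, by simp [k, g]⟩)
        simp only [h, g, Equiv.trans_apply, Equiv.sumCongr_apply, Sum.map_inr, Equiv.sumCompl_apply_inr]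
        exact Finset.mem_compl.1 (((sᶜ).equivFinOfCardEq hs').symm b).2
      · rfl
    conv_lhs => rw [hA]
    rw [Matrix.det_permute', Matrix.det_submatrix_equiv_self, hblk, Matrix.det_fromBlocks_zero₂₁]

theorem det_mem_mul {N : ℕ} {n n' : ℕ} {K : Submodule R (Fin n → R)} {K' : Submodule R (Fin n' → R)}
    (φ : Fin N → Dual R ((Fin n → R) × (Fin n' → R))) (z : Fin N → (Fin n → R) × (Fin n' → R))
    (hφ : ∀ a, (∃ i, φ a = LinearMap.proj i ∘ₗ LinearMap.fst R _ _) ∨
      ∃ i, φ a = LinearMap.proj i ∘ₗ LinearMap.snd R _ _)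
    (hz : ∀ b, (∃ y ∈ K, z b = (y, 0)) ∨ ∃ y ∈ K', z b = (0, y)) :
    minor φ z ∈ ⨆ m ∈ Finset.range (N + 1), minors m K * minors (N - m) K' := by
  classical
  let s : Finset (Fin N) := Finset.univ.filter fun b => ∃ y ∈ K, z b = (y, 0)
  let t : Finset (Fin N) := Finset.univ.filter fun a => ∃ i, φ a = LinearMap.proj i ∘ₗ LinearMap.fst R _ _
  have hs : ∀ b, b ∉ s → ∃ y ∈ K', z b = (0, y) := fun b hb =>
    (hz b).resolve_left fun h => hb (Finset.mem_filter.2 ⟨Finset.mem_univ _, h⟩)
  have ht : ∀ a, a ∉ t → ∃ i, φ a = LinearMap.proj i ∘ₗ LinearMap.snd R _ _ := fun a ha =>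
    (hφ a).resolve_left fun h => ha (Finset.mem_filter.2 ⟨Finset.mem_univ _, h⟩)
  have h0 : ∀ b a, (b ∈ s ∧ a ∉ t) ∨ (b ∉ s ∧ a ∈ t) →
      (Matrix.of fun b a => φ a (z b)) b a = 0 := by
    rintro b a (⟨hb, ha⟩ | ⟨hb, ha⟩)
    · obtain ⟨y, -, hy⟩ := (Finset.mem_filter.1 hb).2
      obtain ⟨i, hi⟩ := ht a ha
      simp [hi, hy]
    · obtain ⟨y, -, hy⟩ := hs b hb
      obtain ⟨i, hi⟩ := (Finset.mem_filter.1 ha).2
      simp [hi, hy]
  by_cases hc : s.card = t.card
  · obtain ⟨i, j, i', j', c, hi, hj, hi', hj', hdet⟩ :=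
      det_eq_mul_of_card_eq _ s t h0 s.card (N - s.card) rfl hc.symm rfl
    rw [minor, hdet]
    refine Submodule.mem_iSup_of_mem s.card (Submodule.mem_iSup_of_mem
      (Finset.mem_range.2 (Nat.lt_succ_of_le (s.card_le_univ.trans_eq (Fintype.card_fin N)))) ?_)
    refine Ideal.mul_mem_left _ c (Ideal.mul_mem_mul ?_ ?_)
    · choose y hy hzy using fun x => (Finset.mem_filter.1 (hi x)).2
      choose l hl using fun x => (Finset.mem_filter.1 (hj x)).2
      convert minor_mem (fun a => (LinearMap.proj (l a) : Dual R (Fin n → R))) hy using 1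
      rw [minor]
      congr 1
      ext b a
      simp [hl a, hzy b]
    · choose y hy hzy using fun x => hs _ (hi' x)
      choose l hl using fun x => ht _ (hj' x)
      convert minor_mem (fun a => (LinearMap.proj (l a) : Dual R (Fin n' → R))) hy using 1
      rw [minor]
      congr 1
      ext b a
      simp [hl a, hzy b]
  · rw [minor, det_eq_zero_of_card_ne _ s t h0 hc]
    exact Ideal.zero_mem _

theorem minors_eq_bot_of_lt {n m : ℕ} (K : Submodule R (Fin n → R)) (h : n < m) : minors m K = ⊥ := by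
  rw [eq_bot_iff]
  conv_lhs => rw [← Submodule.span_eq K]
  refine minors_le_of_span (span_proj n) fun φ hφ z _ => ?_
  choose e he using hφ
  rw [show minor φ z = cminor z e from ?_, cminor_eq_zero]
  · exact Ideal.zero_mem _
  · intro hinj
    have := Fintype.card_le_of_injective e hinj
    simp only [Fintype.card_fin] at this
    omega
  · rw [← minor_proj]; exact congrArg (fun ψ => minor ψ z) (funext fun a => (he a).symm)

theorem minors_prod {N n n' : ℕ} (K : Submodule R (Fin n → R)) (K' : Submodule R (Fin n' → R)) :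
    minors N (K.prod K') = ⨆ m ∈ Finset.range (N + 1), minors m K * minors (N - m) K' := by
  classical
  apply le_antisymm
  · have hK : K.prod K' = Submodule.span R ((LinearMap.inl R _ (Fin n' → R) '' K) ∪
        (LinearMap.inr R (Fin n → R) _ '' K')) := by
      rw [Submodule.span_union, Submodule.span_image, Submodule.span_image, Submodule.span_eq,
        Submodule.span_eq]
      exact LinearMap.prod_eq_sup_map K K'
    rw [hK]
    refine minors_le_of_span (D := Set.range (fun i => LinearMap.proj i ∘ₗ LinearMap.fst R _ _) ∪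
      Set.range (fun i => LinearMap.proj i ∘ₗ LinearMap.snd R _ _)) ?_ fun φ hφ z hz => det_mem_mul φ z
        (fun a => ?_) (fun b => ?_)
    · rw [eq_top_iff]
      intro φ _
      have h : φ = ∑ i, φ (Pi.single i 1, 0) • (LinearMap.proj i ∘ₗ LinearMap.fst R _ _) +
          ∑ i, φ (0, Pi.single i 1) • (LinearMap.proj i ∘ₗ LinearMap.snd R _ _) := by
        ext i <;> simp [Pi.single_apply]
      rw [h]
      exact Submodule.add_mem _
        (Submodule.sum_mem _ fun i _ => Submodule.smul_mem _ _ (Submodule.subset_span (Or.inl ⟨i, rfl⟩)))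
        (Submodule.sum_mem _ fun i _ => Submodule.smul_mem _ _ (Submodule.subset_span (Or.inr ⟨i, rfl⟩)))
    · rcases hφ a with ⟨i, hi⟩ | ⟨i, hi⟩
      exacts [Or.inl ⟨i, hi.symm⟩, Or.inr ⟨i, hi.symm⟩]
    · rcases hz b with ⟨y, hy, hzy⟩ | ⟨y, hy, hzy⟩
      exacts [Or.inl ⟨y, hy, hzy.symm⟩, Or.inr ⟨y, hy, hzy.symm⟩]
  · refine iSup₂_le fun m hm => ?_
    rw [minors, minors, Ideal.span_mul_span', Ideal.span_le]
    rintro _ ⟨_, ⟨φ, z, hz, rfl⟩, _, ⟨φ', z', hz', rfl⟩, rfl⟩
    have hN : m + (N - m) = N := by have := Finset.mem_range.1 hm; omega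
    let e : Fin m ⊕ Fin (N - m) ≃ Fin N := finSumFinEquiv.trans (finCongr hN)
    have hmem : ∀ b, Sum.elim (fun i => (z i, (0 : Fin n' → R))) (fun i => ((0 : Fin n → R), z' i))
        (e.symm b) ∈ K.prod K' := fun b => by rcases e.symm b with i | i <;> simp [hz, hz']
    have := minor_mem (fun a => Sum.elim (fun i => φ i ∘ₗ LinearMap.fst R _ (Fin n' → R))
      (fun i => φ' i ∘ₗ LinearMap.snd R (Fin n → R) _) (e.symm a)) hmem
    rw [minor, ← Matrix.det_submatrix_equiv_self e] at this
    convert SetLike.mem_coe.2 this using 1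
    rw [show (Matrix.of _ : Matrix (Fin N) (Fin N) R).submatrix e e =
        Matrix.fromBlocks (Matrix.of fun b a => φ a (z b)) 0 0 (Matrix.of fun b a => φ' a (z' b)) from ?_,
      Matrix.det_fromBlocks_zero₂₁]
    · rfl
    · ext (b | b) (a | a) <;> simp

variable (M M' : Type u) [AddCommGroup M] [Module R M] [AddCommGroup M'] [Module R M'] [Module.Finite R M]
  [Module.Finite R M']

theorem ideal_prod (l : ℕ) :
    Fitt.ideal R (M × M') l = ∑ k ∈ Finset.range (l + 1), Fitt.ideal R M k * Fitt.ideal R M' (l - k) := by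
  classical
  obtain ⟨n, x, hx⟩ := exists_gen R M
  obtain ⟨n', x', hx'⟩ := exists_gen R M'
  let y : Fin (n + n') → M × M' := Fin.append (fun i => (x i, 0)) (fun i => (0, x' i))
  have hy : Submodule.span R (Set.range y) = ⊤ := by
    rw [eq_top_iff]
    rintro ⟨a, b⟩ -
    have ha : (a, (0 : M')) ∈ Submodule.span R (Set.range y) := by
      have : LinearMap.inl R M M' a ∈ (Submodule.span R (Set.range x)).map (LinearMap.inl R M M') :=
        ⟨a, hx ▸ trivial, rfl⟩
      rw [← Submodule.span_image, ← Set.range_comp] at this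
      refine Submodule.span_mono ?_ this
      rintro _ ⟨i, rfl⟩; exact ⟨Fin.castAdd n' i, by simp [y]⟩
    have hb : ((0 : M), b) ∈ Submodule.span R (Set.range y) := by
      have : LinearMap.inr R M M' b ∈ (Submodule.span R (Set.range x')).map (LinearMap.inr R M M') :=
        ⟨b, hx' ▸ trivial, rfl⟩
      rw [← Submodule.span_image, ← Set.range_comp] at this
      refine Submodule.span_mono ?_ this
      rintro _ ⟨i, rfl⟩; exact ⟨Fin.natAdd n i, by simp [y]⟩
    simpa using Submodule.add_mem _ ha hb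
  let e : ((Fin n → R) × (Fin n' → R)) ≃ₗ[R] (Fin (n + n') → R) :=
    (LinearEquiv.sumArrowLequivProdArrow (Fin n) (Fin n') R R).symm ≪≫ₗ
      LinearEquiv.funCongrLeft R R finSumFinEquiv.symm
  have hrel : ((rel (R := R) x).prod (rel (R := R) x')).map (e : _ →ₗ[R] _) = rel (R := R) y := by
    ext w
    rw [Submodule.map_equiv_eq_comap_symm, Submodule.mem_comap]
    simp [Submodule.mem_prod, mem_rel, y, e, Fin.sum_univ_add, LinearEquiv.funCongrLeft,
      LinearEquiv.sumArrowLequivProdArrow, Equiv.sumArrowEquivProdArrow, LinearMap.funLeft, Prod.ext_iff,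
      Prod.fst_sum, Prod.snd_sum]
  rw [ideal_eq_minors y hy, ← hrel, minors_map_equiv, minors_prod]
  simp_rw [ideal_eq_minors x hx, ideal_eq_minors x' hx', Ideal.sum_eq_sup, Finset.sup_eq_iSup]
  by_cases hl : l ≤ n + n'
  · apply le_antisymm
    · refine iSup₂_le fun m hm => ?_
      by_cases hmn : m ≤ n
      · by_cases hkl : n - m ≤ l
        · refine le_iSup₂_of_le (n - m) (Finset.mem_range.2 (by omega)) ?_
          exact Ideal.mul_mono (by rw [show n - (n - m) = m by omega])
            (minors_antitone (by have := Finset.mem_range.1 hm; omega) _)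
        · rw [minors_eq_bot_of_lt (rel (R := R) x') (m := n + n' - l - m) (by omega), Ideal.mul_bot]
          exact bot_le
      · rw [minors_eq_bot_of_lt _ (by omega), Ideal.bot_mul]
        exact bot_le
    · refine iSup₂_le fun k hk => ?_
      have := Finset.mem_range.1 hk
      by_cases hle : n - k ≤ n + n' - l
      · refine le_iSup₂_of_le (n - k) (Finset.mem_range.2 (by omega)) ?_
        exact Ideal.mul_mono le_rfl (minors_antitone (by omega) _)
      · refine le_iSup₂_of_le (n + n' - l) (Finset.mem_range.2 (by omega)) ?_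
        exact Ideal.mul_mono (minors_antitone (by omega) _) (minors_antitone (by omega) _)
  · rw [show n + n' - l = 0 by omega]
    apply le_antisymm
    · refine iSup₂_le fun m hm => le_iSup₂_of_le n (Finset.mem_range.2 (by omega)) ?_
      rw [show n - n = 0 by omega, show n' - (l - n) = 0 by omega, minors_zero, minors_zero, Ideal.top_mul]
      exact le_top
    · refine le_trans le_top (le_iSup₂_of_le 0 (Finset.mem_range.2 (by omega)) ?_)
      simp [minors_zero]

end Groth.Agent.FittX
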