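import Groth.Agent.FittX.Ideal
import Mathlib.LinearAlgebra.Matrix.Adjugate
import Mathlib.RingTheory.LocalRing.ResidueField.Basic
import Mathlib.RingTheory.Localization.BaseChange
import Mathlib.RingTheory.Support
import Mathlib.LinearAlgebra.Dimension.Free
import Mathlib.LinearAlgebra.Dimension.StrongRankCondition
import Mathlib.RingTheory.TensorProduct.Finite

/-!
# Criteria: when is a Fitting ideal outside a prime
-/

universe u v

open Module

namespace Groth.Agent.FittX

variable {R : Type u} [CommRing R] {M : Type v} [AddCommGroup M] [Module R M]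

/-- The minor of relations `z` in the coordinates `e`. -/
def cminor {n m : ℕ} (z : Fin m → Fin n → R) (e : Fin m → Fin n) : R :=
  (Matrix.of fun b a => z b (e a)).det

theorem minor_proj {n m : ℕ} (z : Fin m → Fin n → R) (e : Fin m → Fin n) :
    minor (fun a => (LinearMap.proj (e a) : Dual R (Fin n → R))) z = cminor z e := rfl

theorem cminor_eq_zero {n m : ℕ} (z : Fin m → Fin n → R) {e : Fin m → Fin n}
    (he : ¬ Function.Injective e) : cminor z e = 0 := by
  obtain ⟨a, a', haa, hne⟩ := Function.not_injective_iff.1 he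
  exact Matrix.det_zero_of_column_eq hne fun b => by simp [haa]

theorem minors_rel_eq_span {n m : ℕ} (x : Fin n → M) :
    minors m (rel (R := R) x) = Ideal.span {d | ∃ (z : Fin m → Fin n → R) (e : Fin m → Fin n),
      (∀ b, z b ∈ rel (R := R) x) ∧ d = cminor z e} := by
  apply le_antisymm
  · conv_lhs => rw [← Submodule.span_eq (rel (R := R) x)]
    refine minors_le_of_span (span_proj n) fun φ hφ z hz => ?_
    choose e he using hφ
    exact Ideal.subset_span ⟨z, e, hz, by rw [← minor_proj]; exact congrArg (fun ψ => minor ψ z) (funext fun a => (he a).symm)⟩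
  · rw [Ideal.span_le]
    rintro d ⟨z, e, hz, rfl⟩
    rw [SetLike.mem_coe, ← minor_proj]
    exact minor_mem _ hz

/-- Cramer: exchanging one column of a minor of relations gives a relation. -/
theorem cminor_relation {n m : ℕ} {x : Fin n → M} {z : Fin m → Fin n → R}
    (hz : ∀ b, z b ∈ rel (R := R) x) (e : Fin m → Fin n) (a : Fin m) :
    ∑ i, cminor z (Function.update e a i) • x i = 0 := by
  set A : Matrix (Fin m) (Fin m) R := Matrix.of fun b a => z b (e a) with hA
  have h : ∀ i, cminor z (Function.update e a i) = ∑ b, A.adjugate a b * z b i := by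
    intro i
    rw [show cminor z (Function.update e a i) = (A.updateCol a fun b => z b i).det from ?_,
      ← Matrix.cramer_apply, Matrix.cramer_eq_adjugate_mulVec]
    · rfl
    · rw [cminor]
      congr 1
      ext b a'
      rcases eq_or_ne a' a with rfl | h
      · simp [A]
      · simp [A, h]
  simp_rw [h, Finset.sum_smul, mul_smul]
  rw [Finset.sum_comm]
  refine Finset.sum_eq_zero fun b _ => ?_
  rw [← Finset.smul_sum, mem_rel.1 (hz b), smul_zero]

/-- `d • x (e a)` is a combination of the generators outside `e`. -/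
theorem cminor_smul_mem {n m : ℕ} {x : Fin n → M} {z : Fin m → Fin n → R}
    (hz : ∀ b, z b ∈ rel (R := R) x) (e : Fin m → Fin n) (i : Fin n) :
    cminor z e • x i ∈ Submodule.span R (x '' (Set.range e)ᶜ) := by
  classical
  by_cases hi : i ∈ Set.range e
  · obtain ⟨a, rfl⟩ := hi
    have h := cminor_relation hz e a
    rw [← Finset.add_sum_erase _ _ (Finset.mem_univ (e a)), Function.update_eq_self,
      add_eq_zero_iff_eq_neg] at h
    rw [h]
    refine Submodule.neg_mem _ (Submodule.sum_mem _ fun j hj => ?_)
    by_cases hj' : j ∈ Set.range e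
    · obtain ⟨a', rfl⟩ := hj'
      rw [cminor_eq_zero, zero_smul]
      · exact Submodule.zero_mem _
      · have hne : a' ≠ a := fun h => (Finset.mem_erase.1 hj).1 (h ▸ rfl)
        exact fun hinj => hne (hinj (by simp [hne]))
    · exact Submodule.smul_mem _ _ (Submodule.subset_span ⟨j, hj', rfl⟩)
  · exact Submodule.smul_mem _ _ (Submodule.subset_span ⟨i, hi, rfl⟩)

/-- Fewer than or equal to `k` elements generate the span of the generators outside `e`. -/
theorem exists_span_compl_eq {n k : ℕ} (x : Fin n → M) {e : Fin (n - k) → Fin n}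
    (he : Function.Injective e) :
    ∃ g : Fin k → M, Submodule.span R (x '' (Set.range e)ᶜ) ≤ Submodule.span R (Set.range g) := by
  classical
  set s : Finset (Fin n) := Finset.univ \ Finset.univ.image e with hs
  have hcard : s.card ≤ k := by
    rw [hs, Finset.card_sdiff_of_subset (Finset.subset_univ _),
      Finset.card_image_of_injective _ he, Finset.card_univ, Finset.card_univ, Fintype.card_fin,
      Fintype.card_fin]
    omega
  refine ⟨fun i => if h : (i : ℕ) < s.card then x (s.equivFin.symm ⟨i, h⟩) else 0,
    Submodule.span_le.2 ?_⟩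
  rintro _ ⟨i, hi, rfl⟩
  have hmem : i ∈ s := by
    simpa [hs] using hi
  refine Submodule.subset_span ⟨⟨s.equivFin ⟨i, hmem⟩, lt_of_lt_of_le (Fin.isLt _) hcard⟩, ?_⟩
  simp

/-- Outside a prime not containing the Fitting ideal, `k` elements generate. -/
theorem exists_smul_mem_span [Module.Finite R M] {k : ℕ} {p : Ideal R} [p.IsPrime]
    (h : ¬ Fitt.ideal R M k ≤ p) :
    ∃ d, d ∉ p ∧ d ∈ Fitt.ideal R M k ∧
      ∃ g : Fin k → M, ∀ y, d • y ∈ Submodule.span R (Set.range g) := by
  obtain ⟨n, x, hx⟩ := exists_gen R M
  rw [ideal_eq_minors x hx, minors_rel_eq_span, Ideal.span_le] at h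
  obtain ⟨_, ⟨z, e, hz, rfl⟩, hd⟩ := Set.not_subset.1 h
  have hinj : Function.Injective e := by
    by_contra hcon
    exact hd (by rw [cminor_eq_zero z hcon]; exact p.zero_mem)
  obtain ⟨g, hg⟩ := exists_span_compl_eq (R := R) x hinj
  refine ⟨cminor z e, hd, ?_, g, fun y => hg ?_⟩
  · rw [ideal_eq_minors x hx, minors_rel_eq_span]
    exact Ideal.subset_span ⟨z, e, hz, rfl⟩
  · have hy : y ∈ Submodule.span R (Set.range x) := hx ▸ trivial
    induction hy using Submodule.span_induction with
    | mem y hy => obtain ⟨i, rfl⟩ := hy; exact cminor_smul_mem hz e i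
    | zero => simp
    | add a b _ _ ha hb => rw [smul_add]; exact Submodule.add_mem _ ha hb
    | smul c a _ ha => rw [smul_comm]; exact Submodule.smul_mem _ c ha

section Loc

variable {R : Type u} [CommRing R] {S : Type u} [CommRing S] [Algebra R S]
  {M M' : Type u} [AddCommGroup M] [Module R M] [AddCommGroup M'] [Module R M'] [Module S M']
  [IsScalarTower R S M'] {f : M →ₗ[R] M'}

theorem span_eq_top_of_smul_mem (h : IsBaseChange S f) {k : ℕ} {g : Fin k → M} {d : R}
    (hu : IsUnit (algebraMap R S d)) (hd : ∀ y, d • y ∈ Submodule.span R (Set.range g)) :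
    Submodule.span S (Set.range (f ∘ g)) = ⊤ := by
  rw [eq_top_iff]
  intro y hy'
  clear hy'
  induction y using h.inductionOn with
  | zero => exact Submodule.zero_mem _
  | tmul m =>
    have hm : f (d • m) ∈ (Submodule.span R (Set.range g)).map f := ⟨_, hd m, rfl⟩
    rw [← Submodule.span_image, ← Set.range_comp, map_smul, ← algebraMap_smul S d (f m)] at hm
    exact (Submodule.smul_mem_iff_of_isUnit _ hu).1 (Submodule.span_le_restrictScalars R S _ hm)
  | smul s y hy => exact Submodule.smul_mem _ s hy
  | add a b ha hb => exact Submodule.add_mem _ ha hb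

theorem not_le_of_span_eq_top [Module.Finite R M] (h : IsBaseChange S f) {k : ℕ} {g : Fin k → M'}
    (hg : Submodule.span S (Set.range g) = ⊤) {p : Ideal R} (hp : p.map (algebraMap R S) ≠ ⊤) :
    ¬ Fitt.ideal R M k ≤ p := by
  intro hle
  refine hp (top_le_iff.1 ?_)
  rw [← ideal_eq_top_of_gen g hg le_rfl, ideal_baseChange h k]
  exact Ideal.map_mono hle

end Loc

section Prime

variable {R : Type u} [CommRing R] (M : Type u) [AddCommGroup M] [Module R M] [Module.Finite R M]
  (k : ℕ) (p : Ideal R) [p.IsPrime]

theorem isBaseChange_mkLinearMap (S : Submonoid R) :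
    IsBaseChange (Localization S) (LocalizedModule.mkLinearMap S M) :=
  IsLocalizedModule.isBaseChange S (Localization S) (LocalizedModule.mkLinearMap S M)

theorem not_le_iff_atPrime :
    ¬ Fitt.ideal R M k ≤ p ↔
      ∃ g : Fin k → LocalizedModule p.primeCompl M,
        Submodule.span (Localization.AtPrime p) (Set.range g) = ⊤ := by
  constructor
  · intro h
    obtain ⟨d, hd, -, g, hg⟩ := exists_smul_mem_span h
    exact ⟨_, span_eq_top_of_smul_mem (isBaseChange_mkLinearMap M p.primeCompl)
      (IsLocalization.map_units (Localization.AtPrime p) (⟨d, hd⟩ : p.primeCompl)) hg⟩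
  · rintro ⟨g, hg⟩
    refine not_le_of_span_eq_top (isBaseChange_mkLinearMap M p.primeCompl) hg ?_
    rw [show p.map (algebraMap R (Localization p.primeCompl)) =
      p.map (algebraMap R (Localization.AtPrime p)) from rfl, Localization.AtPrime.map_eq_maximalIdeal]
    exact (IsLocalRing.maximalIdeal.isMaximal _).ne_top

theorem not_le_iff_away :
    ¬ Fitt.ideal R M k ≤ p ↔ ∃ f : R, f ∉ p ∧
      ∃ g : Fin k → LocalizedModule (Submonoid.powers f) M,
        Submodule.span (Localization.Away f) (Set.range g) = ⊤ := by
  constructor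
  · intro h
    obtain ⟨d, hd, -, g, hg⟩ := exists_smul_mem_span h
    exact ⟨d, hd, _, span_eq_top_of_smul_mem (isBaseChange_mkLinearMap M (Submonoid.powers d))
      (IsLocalization.Away.algebraMap_isUnit (S := Localization.Away d) d) hg⟩
  · rintro ⟨f, hf, g, hg⟩
    refine not_le_of_span_eq_top (isBaseChange_mkLinearMap M (Submonoid.powers f)) hg ?_
    refine (IsLocalization.isPrime_of_isPrime_disjoint (Submonoid.powers f) (Localization (Submonoid.powers f)) p
      ‹_› ?_).ne_top
    rwa [Ideal.disjoint_powers_iff_notMem _ (Ideal.IsPrime.isRadical ‹_›)]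

theorem ideal_eq_bot_of_free (n : ℕ) (b : Basis (Fin n) R M) (hk : k < n) : Fitt.ideal R M k = ⊥ := by
  rw [ideal_eq_minors b b.span_eq]
  have : rel (R := R) b = ⊥ := by
    rw [eq_bot_iff]
    intro z hz
    exact funext fun i => Fintype.linearIndependent_iff.1 b.linearIndependent z (mem_rel.1 hz) i
  rw [this, minors_bot (by omega)]

theorem not_le_iff_fiber :
    ¬ Fitt.ideal R M k ≤ p ↔
      Module.finrank p.ResidueField (TensorProduct R p.ResidueField M) ≤ k := by
  have h := ideal_baseChange (TensorProduct.isBaseChange R M p.ResidueField) k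
  let b := Module.finBasis p.ResidueField (TensorProduct R p.ResidueField M)
  have hker : ∀ I : Ideal R, I.map (algebraMap R p.ResidueField) = ⊥ ↔ I ≤ p := fun I => by
    rw [Ideal.map_eq_bot_iff_le_ker, Ideal.ker_algebraMap_residueField]
  constructor
  · intro hle
    by_contra hcon
    rw [ideal_eq_bot_of_free _ k _ b (by omega)] at h
    exact hle ((hker _).1 h.symm)
  · intro hk hle
    rw [ideal_eq_top_of_gen b b.span_eq hk, (hker _).2 hle] at h
    exact top_ne_bot h

theorem zeroLocus_eq_support :
    PrimeSpectrum.zeroLocus (Fitt.ideal R M 0 : Set R) = Module.support R M := by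
  ext q
  rw [PrimeSpectrum.mem_zeroLocus, SetLike.coe_subset_coe, Module.mem_support_iff]
  refine ⟨fun h => ?_, fun h => ?_⟩
  · by_contra hn
    rw [not_nontrivial_iff_subsingleton] at hn
    exact (not_le_iff_atPrime M 0 q.asIdeal).2 ⟨fun i => i.elim0, Subsingleton.elim _ _⟩ h
  · by_contra hn
    obtain ⟨g, hg⟩ := (not_le_iff_atPrime M 0 q.asIdeal).1 hn
    rw [Set.range_eq_empty g, Submodule.span_empty] at hg
    have := (Submodule.subsingleton_iff (Localization.AtPrime q.asIdeal)).1 (subsingleton_of_bot_eq_top hg)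
    exact false_of_nontrivial_of_subsingleton (LocalizedModule q.asIdeal.primeCompl M)

end Prime

end Groth.Agent.FittX
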