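import Groth.Agent.FittX.Sheaf
import Mathlib.RingTheory.Ideal.Operations
import Mathlib.AlgebraicGeometry.Morphisms.QuasiFinite

/-!
# Locally free modules are trivial near a finite set of points of an affine open
-/

set_option backward.isDefEq.respectTransparency false
set_option backward.isDefEq.respectTransparency.types false
set_option linter.style.haveILetI false

universe u

open CategoryTheory AlgebraicGeometry TopologicalSpace Opposite
open scoped TensorProduct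

namespace Groth.Agent.FittX

section Algebra

variable {R : Type u} [CommRing R]

theorem exists_notMem_all (I : Ideal R) (s : Finset (PrimeSpectrum R)) (h : ∀ p ∈ s, ¬ I ≤ p.asIdeal) :
    ∃ a ∈ I, ∀ p ∈ s, a ∉ p.asIdeal := by
  rcases s.eq_empty_or_nonempty with rfl | ⟨p₀, hp₀⟩
  · exact ⟨0, I.zero_mem, by simp⟩
  by_contra! hall
  obtain ⟨p, hp, hle⟩ := (Ideal.subset_union_prime p₀ p₀ (fun p _ _ _ => p.isPrime)).1
    (show (I : Set R) ⊆ ⋃ p ∈ (↑s : Set (PrimeSpectrum R)), (p.asIdeal : Set R) from fun a ha => by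
      obtain ⟨p, hp, hap⟩ := hall a ha
      exact Set.mem_biUnion hp hap)
  exact h p hp hle

theorem exists_frame_of_finset {M : Type u} [AddCommGroup M] [Module R M] [Module.Finite R M] (r : ℕ)
    (s : Finset (PrimeSpectrum R)) (hmax : ∀ p ∈ s, ∀ q ∈ s, p.asIdeal ≤ q.asIdeal → p = q)
    (h : ∀ p ∈ s, ¬ Fitt.ideal R M r ≤ p.asIdeal) :
    ∃ g : Fin r → M, ∀ p ∈ s, ¬ Fitt.ideal R (M ⧸ Submodule.span R (Set.range g)) 0 ≤ p.asIdeal := by
  classical
  have h1 : ∀ p : s, ∃ (d : R) (g : Fin r → M), d ∉ p.1.asIdeal ∧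
      ∀ y, d • y ∈ Submodule.span R (Set.range g) := fun p => by
    obtain ⟨d, hd, -, g, hg⟩ := exists_smul_mem_span (h p.1 p.2)
    exact ⟨d, g, hd, hg⟩
  choose d G hd hG using h1
  have h2 : ∀ p : s, ∃ e : R, e ∉ p.1.asIdeal ∧ ∀ q : s, q ≠ p → e ∈ q.1.asIdeal := fun p => by
    have hq : ∀ q : s, ∃ a, a ∉ p.1.asIdeal ∧ (q ≠ p → a ∈ q.1.asIdeal) := fun q => by
      by_cases hqp : q = p
      · exact ⟨1, (Ideal.ne_top_iff_one _).1 p.1.isPrime.ne_top, fun h => absurd hqp h⟩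
      · obtain ⟨a, ha, hap⟩ := SetLike.not_le_iff_exists.1
          (fun hle => hqp (Subtype.ext (hmax q.1 q.2 p.1 p.2 hle)))
        exact ⟨a, hap, fun _ => ha⟩
    choose a ha ha' using hq
    refine ⟨∏ q, a q, ?_, fun q hqp => Ideal.mem_of_dvd _ (Finset.dvd_prod_of_mem a (Finset.mem_univ q)) (ha' q hqp)⟩
    rw [p.1.isPrime.prod_mem_iff]
    exact fun ⟨q, _, hq⟩ => ha q hq
  choose e he he' using h2
  let g : Fin r → M := fun l => ∑ p : s, e p • G p l
  refine ⟨g, fun p hp => ?_⟩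
  set L := Submodule.span R (Set.range g) with hL
  rw [not_le_iff_fiber (M ⧸ L) 0 p.asIdeal]
  suffices Subsingleton (p.asIdeal.ResidueField ⊗[R] (M ⧸ L)) from le_of_eq Module.finrank_zero_of_subsingleton
  have hzero : ∀ a ∈ p.asIdeal, ∀ (k : p.asIdeal.ResidueField) (y : M ⧸ L), k ⊗ₜ[R] (a • y) = 0 := by
    intro a ha k y
    rw [← TensorProduct.smul_tmul, Algebra.smul_def, Ideal.algebraMap_residueField_eq_zero.2 ha, zero_mul,
      TensorProduct.zero_tmul]
  have hu : ∀ a, a ∉ p.asIdeal → IsUnit (algebraMap R p.asIdeal.ResidueField a) := fun a ha =>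
    isUnit_iff_ne_zero.2 fun h0 => ha (Ideal.algebraMap_residueField_eq_zero.1 h0)
  have hkill : ∀ a, a ∉ p.asIdeal → ∀ (k : p.asIdeal.ResidueField) (y : M ⧸ L),
      (∀ k' : p.asIdeal.ResidueField, k' ⊗ₜ[R] (a • y) = 0) → k ⊗ₜ[R] y = 0 := by
    intro a ha k y hy
    obtain ⟨v, hv⟩ := hu a ha
    have := hy (↑v⁻¹ * k)
    rw [← TensorProduct.smul_tmul, Algebra.smul_def, ← hv, ← mul_assoc, v.mul_inv, one_mul] at this
    exact this
  have hgen : ∀ (l : Fin r) (k : p.asIdeal.ResidueField), k ⊗ₜ[R] (L.mkQ (G ⟨p, hp⟩ l)) = 0 := by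
    intro l k
    refine hkill (e ⟨p, hp⟩) (he ⟨p, hp⟩) k _ fun k' => ?_
    have h0 : ∑ q : s, e q • L.mkQ (G q l) = 0 := by
      simp only [← map_smul, ← map_sum]
      exact (Submodule.Quotient.mk_eq_zero L).2 (Submodule.subset_span ⟨l, rfl⟩)
    rw [← Finset.add_sum_erase _ _ (Finset.mem_univ (⟨p, hp⟩ : s)), add_eq_zero_iff_eq_neg] at h0
    rw [h0, TensorProduct.tmul_neg, neg_eq_zero, TensorProduct.tmul_sum]
    exact Finset.sum_eq_zero fun q hq =>
      hzero _ (he' q ⟨p, hp⟩ fun hpq => (Finset.mem_erase.1 hq).1 hpq.symm) k' _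
  refine ⟨fun u v => ?_⟩
  suffices H : ∀ u : p.asIdeal.ResidueField ⊗[R] (M ⧸ L), u = 0 by rw [H u, H v]
  intro u
  induction u using TensorProduct.induction_on with
  | zero => rfl
  | add a b ha hb => rw [ha, hb, add_zero]
  | tmul k y =>
    obtain ⟨y, rfl⟩ := Submodule.mkQ_surjective L y
    refine hkill (d ⟨p, hp⟩) (hd ⟨p, hp⟩) k _ fun k' => ?_
    rw [← map_smul]
    obtain ⟨c, hc⟩ := Submodule.mem_span_range_iff_exists_fun R |>.1 (hG ⟨p, hp⟩ y)
    rw [← hc, map_sum, TensorProduct.tmul_sum]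
    refine Finset.sum_eq_zero fun l _ => ?_
    rw [map_smul, ← TensorProduct.smul_tmul]
    exact hgen l _

/-- Near finitely many primes a projective module of rank `r` is generated by `r` elements. -/
theorem exists_frame {M : Type u} [AddCommGroup M] [Module R M] [Module.Finite R M] (r : ℕ)
    (s : Finset (PrimeSpectrum R)) (h : Fitt.ideal R M r = ⊤) :
    ∃ (g : Fin r → M) (a : R), (∀ p ∈ s, a ∉ p.asIdeal) ∧
      ∀ y, a • y ∈ Submodule.span R (Set.range g) := by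
  classical
  let t := s.filter fun p => ∀ q ∈ s, p ≤ q → q ≤ p
  obtain ⟨g, hg⟩ := exists_frame_of_finset (M := M) r t
    (fun p hp q hq hle => le_antisymm hle
      ((Finset.mem_filter.1 hp).2 q (Finset.mem_filter.1 hq).1 hle))
    (fun p _ => by rw [h, top_le_iff]; exact p.isPrime.ne_top)
  obtain ⟨a, ha, hap⟩ := exists_notMem_all _ t hg
  refine ⟨g, a, fun p hp hmem => ?_, fun y => ?_⟩
  · obtain ⟨q, hpq, hq⟩ := s.finite_toSet.exists_le_maximal hp
    exact hap q (Finset.mem_filter.2 ⟨hq.1, fun q' hq' hle => hq.2 hq' hle⟩) (hpq hmem)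
  · rw [← Submodule.Quotient.mk_eq_zero, Submodule.Quotient.mk_smul]
    exact Module.mem_annihilator.1 (ideal_annihilator ha) _

end Algebra

open Groth.Agent.QCoh

variable {X : Scheme.{u}}

theorem exists_trivial_near {r : ℕ} (M : X.Modules) (hM : FlatMod.IsFinLocFreeOfRank r M) (Z : Set X)
    (hZ : Z.Finite) {V : X.Opens} (hV : IsAffineOpen V) (hZV : Z ⊆ V) :
    ∃ U : X.Opens, Z ⊆ U ∧ U ≤ V ∧ Nonempty (M.restrict U.ι ≅ FlatMod.freeMod (U : Scheme.{u}) r) := by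
  classical
  have hlf : FlatMod.IsFinLocFree M := fun x => let ⟨U, hx, h⟩ := hM x; ⟨U, r, hx, h⟩
  have hq := isQCoh_of_isFinLocFree hlf
  have hft := isFT_of_isFP (isFP_of_isFinLocFree hlf)
  obtain ⟨h0, h1⟩ := (isFinLocFreeOfRank_iff hq hft r).1 hM
  haveI := finite_of_isFT hq hft hV
  haveI : Fintype Z := hZ.fintype
  let s : Finset (PrimeSpectrum Γ(X, V)) := Finset.univ.image fun z : Z => hV.primeIdealOf ⟨z.1, hZV z.2⟩
  obtain ⟨g, a, ha, hg⟩ := exists_frame (M := Γ(M, V)) r s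
    (by rw [← sheafIdeal_ideal hq hft r ⟨V, hV⟩, h1 r le_rfl, Scheme.IdealSheafData.ideal_top]; rfl)
  refine ⟨X.basicOpen a, fun z hz => (mem_basicOpen_iff_notMem hV (hZV hz) a).2
    (ha _ (Finset.mem_image.2 ⟨⟨z, hz⟩, Finset.mem_univ _, rfl⟩)), X.basicOpen_le a, ?_⟩
  letI := basicModule a M
  haveI : IsScalarTower Γ(X, V) Γ(X, X.basicOpen a) Γ(M, X.basicOpen a) :=
    IsScalarTower.of_algebraMap_smul fun _ _ => rfl
  haveI := hV.isLocalization_basicOpen a
  have hD : IsAffineOpen (X.basicOpen a) := hV.basicOpen a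
  haveI := finite_of_isFT hq hft hD
  have hspan := span_eq_top_of_smul_mem (isBaseChange_basicRes hq hV a)
    (IsLocalization.Away.algebraMap_isUnit a) hg
  have hli := linearIndependent_of_ideal_eq_bot _ hspan fun j hj => by
    rw [← sheafIdeal_ideal hq hft j ⟨X.basicOpen a, hD⟩, h0 j hj, Scheme.IdealSheafData.ideal_bot]; rfl
  exact exists_free_restrict hq hD ((Module.Basis.mk hli hspan.ge).reindex Equiv.ulift.symm).repr

theorem exists_trivial_over_preimage {X' : Scheme.{u}} (f : X' ⟶ X) [IsFinite f] {r : ℕ}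
    (F : X'.Modules) (hF : FlatMod.IsFinLocFreeOfRank r F) (x : X) :
    ∃ U : X.Opens, x ∈ U ∧ Nonempty (F.restrict (f ⁻¹ᵁ U).ι ≅ FlatMod.freeMod (↑(f ⁻¹ᵁ U)) r) := by
  obtain ⟨_, ⟨W, hW, rfl⟩, hxW, -⟩ :=
    X.isBasis_affineOpens.exists_subset_of_mem_open (Set.mem_univ x) isOpen_univ
  have hW' : IsAffineOpen W := hW
  obtain ⟨V, hZV, hVW, ⟨e⟩⟩ := exists_trivial_near F hF (f ⁻¹' {x}) (f.finite_preimage_singleton x)
    (hW'.preimage f) (fun z hz => show f z ∈ W from (Set.mem_singleton_iff.1 hz).symm ▸ hxW)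
  have hcl : IsClosed (f '' (↑V)ᶜ) := f.isClosedMap _ V.2.isClosed_compl
  refine ⟨⟨(f '' (↑V)ᶜ)ᶜ, hcl.isOpen_compl⟩, ?_, ?_⟩
  · rintro ⟨z, hz, hzx⟩
    exact hz (hZV hzx)
  · have hle : f ⁻¹ᵁ ⟨(f '' (↑V)ᶜ)ᶜ, hcl.isOpen_compl⟩ ≤ V := fun z hz => by
      by_contra hzV
      exact hz ⟨z, hzV, rfl⟩
    exact ⟨((Scheme.Modules.restrictFunctorCongr (X'.homOfLE_ι hle).symm).app F) ≪≫
      (restrictRestrict F _ _).symm ≪≫ (Scheme.Modules.restrictFunctor _).mapIso e ≪≫ freeModRestrict _ r⟩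

end Groth.Agent.FittX
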