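import Groth.Agent.FittX.Principal
import Groth.Agent.FittX.Prod
import Mathlib.Algebra.Category.ModuleCat.ProjectiveDimension
import Mathlib.Algebra.Category.ModuleCat.Projective
import Mathlib.RingTheory.LocalProperties.FinitePresentation
import Mathlib.RingTheory.Flat.Localization
import Mathlib.RingTheory.Flat.EquationalCriterion
import Mathlib.RingTheory.Localization.Integer
import Mathlib.LinearAlgebra.Basis.Basic

/-!
# Modules whose first non-zero Fitting ideal is invertible
-/

universe u

open Module CategoryTheory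

namespace Groth.Agent.FittX

variable {R : Type u} [CommRing R] {M : Type u} [AddCommGroup M] [Module R M]

/-- Elements that span up to `d` and are independent up to powers of `d` give a basis after inverting `d`. -/
theorem exists_basis_away {ι : Type} [Fintype ι] (g : ι → M) (d : R)
    (hs : ∀ y, ∃ j : ℕ, d ^ j • y ∈ Submodule.span R (Set.range g))
    (hi : ∀ v : ι → R, ∑ i, v i • g i = 0 → ∀ i, ∃ j : ℕ, d ^ j * v i = 0) :
    Nonempty (Basis ι (Localization.Away d) (LocalizedModule (Submonoid.powers d) M)) := by
  let F := LocalizedModule.mkLinearMap (Submonoid.powers d) M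
  refine ⟨Basis.mk (v := F ∘ g) ?_ ?_⟩
  · rw [Fintype.linearIndependent_iff]
    intro v hv i
    obtain ⟨⟨b, hb⟩, hint⟩ := IsLocalization.exist_integer_multiples_of_finite (Submonoid.powers d) v
    choose w hw using hint
    have h0 : F (∑ i, w i • g i) = 0 := by
      have : b • ∑ i, v i • F (g i) = 0 := by rw [show ∑ i, v i • F (g i) = 0 from hv, smul_zero]
      rw [Finset.smul_sum] at this
      rw [map_sum, ← this]
      refine Finset.sum_congr rfl fun j _ => ?_
      rw [map_smul, ← smul_assoc, ← algebraMap_smul (Localization.Away d) (w j)]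
      exact congrArg (· • F (g j)) (hw j)
    rw [← map_zero F] at h0
    obtain ⟨⟨c, n, rfl⟩, hc⟩ := (IsLocalizedModule.eq_iff_exists (Submonoid.powers d) F).1 h0
    simp only [Submonoid.smul_def, Finset.smul_sum, smul_zero, ← mul_smul] at hc
    obtain ⟨j, hj⟩ := hi (fun i => d ^ n * w i) hc i
    have hu : IsUnit (algebraMap R (Localization.Away d) b) :=
      IsLocalization.map_units (Localization.Away d) (⟨b, hb⟩ : Submonoid.powers d)
    refine hu.mul_right_eq_zero.1 ?_
    rw [← Algebra.smul_def, show b • v i = algebraMap R _ (w i) from (hw i).symm,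
      IsLocalization.map_eq_zero_iff (Submonoid.powers d)]
    exact ⟨⟨d ^ (j + n), j + n, rfl⟩, show d ^ (j + n) * w i = 0 by rw [pow_add, mul_assoc]; exact hj⟩
  · intro y _
    obtain ⟨⟨m, s⟩, hms⟩ := IsLocalizedModule.surj (Submonoid.powers d) F y
    obtain ⟨j, hj⟩ := hs m
    have hm : F (d ^ j • m) ∈ (Submodule.span R (Set.range g)).map F := ⟨_, hj, rfl⟩
    rw [← Submodule.span_image, ← Set.range_comp, map_smul, ← hms, Submonoid.smul_def, ← mul_smul,
      ← algebraMap_smul (Localization.Away d) (d ^ j * (s : R))] at hm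
    refine (Submodule.smul_mem_iff_of_isUnit _ ?_).1 (Submodule.span_le_restrictScalars R _ _ hm)
    rw [map_mul]
    exact (IsLocalization.map_units _ (⟨d ^ j, j, rfl⟩ : Submonoid.powers d)).mul
      (IsLocalization.map_units _ s)

theorem projective_of_free_away [Module.Finite R M]
    (h : ∀ (p : Ideal R) [p.IsPrime], ∃ f : R, f ∉ p ∧
      Module.Free (Localization.Away f) (LocalizedModule (Submonoid.powers f) M)) :
    Module.Projective R M := by
  let s : Set R := {f | Module.Free (Localization.Away f) (LocalizedModule (Submonoid.powers f) M)}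
  have hs : Ideal.span s = ⊤ := by
    by_contra hne
    obtain ⟨m, hm, hle⟩ := Ideal.exists_le_maximal _ hne
    obtain ⟨f, hf, hfree⟩ := h m
    exact hf (hle (Ideal.subset_span hfree))
  have hfree : ∀ g : s, Module.Free (Localization.Away g.1) (LocalizedModule.Away g.1 M) := fun g => g.2
  have hfin : ∀ g : s, Module.Finite (Localization.Away g.1) (LocalizedModule.Away g.1 M) := fun g =>
    Module.Finite.of_isLocalizedModule (Submonoid.powers g.1)
      (LocalizedModule.mkLinearMap (Submonoid.powers g.1) M)
  have : Module.FinitePresentation R M := Module.FinitePresentation.of_localizationSpan s hs fun g => by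
    have := hfree g
    have := hfin g
    exact Module.finitePresentation_of_projective _ _
  have : Module.Flat R M := Module.flat_of_localized_span R M s hs fun g => by
    have := hfree g
    have : Module.Flat R (Localization.Away g.1) := IsLocalization.flat _ (Submonoid.powers g.1)
    exact Module.Flat.trans R (Localization.Away g.1) _
  exact Module.Flat.projective_of_finitePresentation

section Main

variable {n m : ℕ} {x : Fin n → M} {z : Fin m → Fin n → R} {e : Fin m → Fin n} {f c : R}

theorem coeff_mem_zero (hf0 : f ∈ nonZeroDivisors R) (hd : cminor z e = f * c) (v : Fin m → R)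
    (hv : ∀ a, ∑ b, v b * z b (e a) = 0) (b : Fin m) : c * v b = 0 := by
  classical
  set A : Matrix (Fin m) (Fin m) R := Matrix.of fun b a => z b (e a) with hA
  have h : Matrix.vecMul v A = 0 := funext fun a => by simpa [Matrix.vecMul, dotProduct, A] using hv a
  have h2 := congrArg (fun w => Matrix.vecMul w A.adjugate) h
  simp only [Matrix.vecMul_vecMul, Matrix.mul_adjugate, Matrix.vecMul_smul, Matrix.vecMul_one,
    Matrix.zero_vecMul] at h2
  have h3 := congrFun h2 b
  simp only [Pi.smul_apply, smul_eq_mul, Pi.zero_apply] at h3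
  rw [show A.det = f * c from hd, mul_assoc] at h3
  exact (mul_right_mem_nonZeroDivisors_eq_zero_iff hf0).1 ((mul_comm _ _).trans h3)

theorem smul_mem_span (hz : ∀ b, z b ∈ rel (R := R) x) (hf0 : f ∈ nonZeroDivisors R)
    (hd : cminor z e = f * c) (hf : minors m (rel (R := R) x) = Ideal.span {f})
    (hbot : minors (m + 1) (rel (R := R) x) = ⊥) (w : Fin n → R) (hw : w ∈ rel (R := R) x) :
    c ^ 2 • w ∈ Submodule.span R (Set.range z) := by
  classical
  set A : Matrix (Fin m) (Fin m) R := Matrix.of fun b a => z b (e a) with hA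
  have hmem : ∀ b, ∃ β, (A.updateRow b fun a => w (e a)).det = f * β := by
    intro b
    have hz' : ∀ b', Function.update z b w b' ∈ rel (R := R) x := fun b' => by
      rcases eq_or_ne b' b with rfl | h
      · simpa using hw
      · simpa [h] using hz b'
    have h1 : cminor (Function.update z b w) e = (A.updateRow b fun a => w (e a)).det := by
      rw [cminor]
      congr 1
      ext b' a
      rcases eq_or_ne b' b with rfl | h <;> simp [A, *]
    obtain ⟨β, hβ⟩ := Ideal.mem_span_singleton'.1
      (show cminor (Function.update z b w) e ∈ Ideal.span {f} from by rw [← hf, ← minor_proj]; exact minor_mem _ hz')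
    exact ⟨β, by rw [← h1, ← hβ, mul_comm]⟩
  choose β hβ using hmem
  set w' : Fin n → R := c • w - ∑ b, β b • z b with hw'
  have hw'rel : w' ∈ rel (R := R) x :=
    Submodule.sub_mem _ (Submodule.smul_mem _ _ hw) (Submodule.sum_mem _ fun b _ => Submodule.smul_mem _ _ (hz b))
  have he : ∀ a, w' (e a) = 0 := by
    intro a
    have hcr := congrFun (Matrix.mulVec_cramer A.transpose fun a => w (e a)) a
    simp only [Matrix.mulVec, dotProduct, Matrix.transpose_apply, Matrix.det_transpose, Pi.smul_apply,
      smul_eq_mul, Matrix.cramer_transpose_apply, hβ] at hcr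
    rw [show A.det = f * c from hd] at hcr
    have : f * w' (e a) = 0 := by
      simp only [hw', Pi.sub_apply, Pi.smul_apply, Finset.sum_apply, smul_eq_mul, mul_sub, Finset.mul_sum]
      rw [sub_eq_zero, ← mul_assoc, ← hcr]
      exact Finset.sum_congr rfl fun b _ => by simp [A]; ring
    exact (mul_right_mem_nonZeroDivisors_eq_zero_iff hf0).1 ((mul_comm _ _).trans this)
  have hoff : c • w' = 0 := by
    funext i
    have hrow : ∀ b, Fin.snoc (α := fun _ => Fin n → R) z w' b ∈ rel (R := R) x := fun b => by
      induction b using Fin.lastCases with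
      | last => simpa using hw'rel
      | cast b => simpa using hz b
    have h0 : cminor (Fin.snoc (α := fun _ => Fin n → R) z w') (Fin.snoc (α := fun _ => Fin n) e i) = 0 := by
      rw [← Ideal.mem_bot, ← hbot, ← minor_proj]
      exact minor_mem _ hrow
    rw [cminor, Matrix.det_succ_row _ (Fin.last m), Finset.sum_eq_single (Fin.last m)] at h0
    · simp only [Matrix.of_apply, Fin.snoc_last, Fin.succAbove_last] at h0
      have hdet : ((Matrix.of fun b a => (Fin.snoc (α := fun _ => Fin n → R) z w' : Fin (m + 1) → Fin n → R) b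
          ((Fin.snoc (α := fun _ => Fin n) e i : Fin (m + 1) → Fin n) a)).submatrix Fin.castSucc
          Fin.castSucc).det = f * c := by
        rw [← hd, cminor]; congr 1; ext b a; simp
      rw [hdet, ← two_mul, pow_mul, neg_one_sq, one_pow, one_mul] at h0
      have : f * (c * w' i) = 0 := by rw [← mul_assoc, mul_comm, h0]
      exact (mul_right_mem_nonZeroDivisors_eq_zero_iff hf0).1 ((mul_comm _ _).trans this)
    · intro a _ ha
      obtain ⟨a, rfl⟩ := Fin.eq_castSucc_of_ne_last ha
      simp [he a]
    · simp
  rw [show c ^ 2 • w = c • ∑ b, β b • z b from ?_]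
  · exact Submodule.smul_mem _ _ (Submodule.sum_mem _ fun b _ =>
      Submodule.smul_mem _ _ (Submodule.subset_span ⟨b, rfl⟩))
  · rw [hw', smul_sub, sub_eq_zero] at hoff
    rw [← hoff, smul_smul, sq]

end Main

variable [Module.Finite R M] {k : ℕ} {f : R}

theorem minors_succ_eq_bot {n : ℕ} (x : Fin n → M) (hx : Submodule.span R (Set.range x) = ⊤)
    (hk : k = 0 ∨ Fitt.ideal R M (k - 1) = ⊥) : minors (n - k + 1) (rel (R := R) x) = ⊥ := by
  rcases Nat.eq_zero_or_pos k with rfl | hpos
  · exact minors_eq_bot_of_lt _ (by omega)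
  · rw [eq_bot_iff, ← hk.resolve_left hpos.ne', ideal_eq_minors x hx]
    exact minors_antitone (by omega) _

theorem exists_local_data {n : ℕ} (x : Fin n → M) (hx : Submodule.span R (Set.range x) = ⊤)
    (hf0 : f ∈ nonZeroDivisors R) (hf : Fitt.ideal R M k = Ideal.span {f}) (p : Ideal R) [p.IsPrime] :
    ∃ (z : Fin (n - k) → Fin n → R) (e : Fin (n - k) → Fin n) (c : R),
      (∀ b, z b ∈ rel (R := R) x) ∧ Function.Injective e ∧ c ∉ p ∧ cminor z e = f * c := by
  rw [ideal_eq_minors x hx] at hf
  by_contra! hall
  have h : Ideal.span {f} ≤ Ideal.span {f} * p := by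
    conv_lhs => rw [← hf, minors_rel_eq_span]
    rw [Ideal.span_le]
    rintro d ⟨z, e, hz, rfl⟩
    obtain ⟨c, hc⟩ := Ideal.mem_span_singleton'.1
      (show cminor z e ∈ Ideal.span {f} from hf ▸ minor_proj z e ▸ minor_mem _ hz)
    by_cases hinj : Function.Injective e
    · rw [← hc, mul_comm c f]
      exact Ideal.mul_mem_mul (Ideal.mem_span_singleton_self f)
        (by_contra fun hcp => hall z e c hz hinj hcp (by rw [← hc, mul_comm]))
    · rw [cminor_eq_zero z hinj]; exact Ideal.zero_mem _
  obtain ⟨a, ha, hfa⟩ := Ideal.mem_span_singleton_mul.1 (h (Ideal.mem_span_singleton_self f))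
  have h1 : a = 1 := by
    refine sub_eq_zero.1 ((mul_right_mem_nonZeroDivisors_eq_zero_iff hf0).1 ?_)
    rw [sub_mul, mul_comm, hfa, one_mul, sub_self]
  exact ‹p.IsPrime›.ne_top ((Ideal.eq_top_iff_one p).2 (h1 ▸ ha))

theorem projective_rel {n : ℕ} (x : Fin n → M) (hx : Submodule.span R (Set.range x) = ⊤)
    [Module.FinitePresentation R M]
    (hf0 : f ∈ nonZeroDivisors R) (hf : Fitt.ideal R M k = Ideal.span {f})
    (hk : k = 0 ∨ Fitt.ideal R M (k - 1) = ⊥) : Module.Projective R (rel (R := R) x) := by
  have : Module.Finite R (rel (R := R) x) := Module.Finite.iff_fg.2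
    (Module.FinitePresentation.fg_ker _ (by
      rw [← LinearMap.range_eq_top, Fintype.range_linearCombination, hx]))
  refine projective_of_free_away fun p hp => ?_
  obtain ⟨z, e, c, hz, -, hc, hd⟩ := exists_local_data x hx hf0 hf p
  rw [ideal_eq_minors x hx] at hf
  suffices Nonempty (Basis (Fin (n - k)) (Localization.Away c)
      (LocalizedModule (Submonoid.powers c) (rel (R := R) x))) from
    ⟨c, hc, this.elim fun b => Module.Free.of_basis b⟩
  refine exists_basis_away (fun b => (⟨z b, hz b⟩ : rel (R := R) x)) c (fun y => ⟨2, ?_⟩)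
    (fun v hv i => ⟨1, ?_⟩)
  · obtain ⟨v, hv⟩ := Submodule.mem_span_range_iff_exists_fun R |>.1
      (smul_mem_span hz hf0 hd hf (minors_succ_eq_bot x hx hk) y.1 y.2)
    exact Submodule.mem_span_range_iff_exists_fun R |>.2 ⟨v, Subtype.ext (by simpa using hv)⟩
  · rw [pow_one]
    refine coeff_mem_zero hf0 hd v (fun a => ?_) i
    simpa using congrFun (congrArg Subtype.val hv) (e a)

theorem exists_basis_quotient (hf0 : f ∈ nonZeroDivisors R) (hf : Fitt.ideal R M k = Ideal.span {f})
    (hk : k = 0 ∨ Fitt.ideal R M (k - 1) = ⊥) (p : Ideal R) [p.IsPrime] :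
    ∃ c : R, c ∉ p ∧ Nonempty (Basis (Fin k) (Localization.Away c)
      (LocalizedModule (Submonoid.powers c) (M ⧸ LinearMap.ker (f • (LinearMap.id : M →ₗ[R] M))))) := by
  classical
  obtain ⟨n, x, hx⟩ := exists_gen R M
  obtain ⟨z, e, c, hz, hinj, hc, hd⟩ := exists_local_data x hx hf0 hf p
  set T := LinearMap.ker (f • (LinearMap.id : M →ₗ[R] M)) with hT
  have hf' : minors (n - k) (rel (R := R) x) = Ideal.span {f} := ideal_eq_minors x hx k ▸ hf
  have hbot := minors_succ_eq_bot x hx hk
  have hkn : k ≤ n := by
    by_contra hlt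
    rw [ideal_eq_top_of_gen x hx (Nat.le_sub_one_of_lt (not_le.1 hlt))] at hk
    rcases hk with h | h
    · omega
    · exact ‹p.IsPrime›.ne_top (top_le_iff.1 (h.le.trans bot_le))
  have hcard : Fintype.card ↥(Set.range e)ᶜ = k := by
    rw [Fintype.card_compl_set, Set.card_range_of_injective hinj, Fintype.card_fin, Fintype.card_fin]
    omega
  suffices Nonempty (Basis ↥(Set.range e)ᶜ (Localization.Away c)
      (LocalizedModule (Submonoid.powers c) (M ⧸ T))) from
    ⟨c, hc, this.map fun b => b.reindex (Fintype.equivFinOfCardEq hcard)⟩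
  refine exists_basis_away (fun i : ↥(Set.range e)ᶜ => T.mkQ (x i.1)) c (fun y => ?_) (fun v hv i => ?_)
  · refine ⟨1, ?_⟩
    rw [pow_one]
    obtain ⟨y, rfl⟩ := Submodule.mkQ_surjective T y
    have hy : y ∈ Submodule.span R (Set.range x) := hx ▸ trivial
    induction hy using Submodule.span_induction with
    | zero => simp
    | add a b _ _ ha hb => rw [map_add, smul_add]; exact Submodule.add_mem _ ha hb
    | smul r a _ ha => rw [map_smul, smul_comm]; exact Submodule.smul_mem _ r ha
    | mem y hy =>
      obtain ⟨i, rfl⟩ := hy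
      by_cases hi : i ∈ Set.range e
      · obtain ⟨a, rfl⟩ := hi
        have hmem : ∀ j, ∃ d, cminor z (Function.update e a j) = f * d := fun j => by
          obtain ⟨d, hd⟩ := Ideal.mem_span_singleton'.1 (show cminor z (Function.update e a j) ∈
            Ideal.span {f} from by rw [← hf', ← minor_proj]; exact minor_mem _ hz)
          exact ⟨d, by rw [← hd, mul_comm]⟩
        choose d hd1 using hmem
        let d' : Fin n → R := fun j => if j = e a then c else if j ∈ Set.range e then 0 else d j
        have hd' : ∀ j, cminor z (Function.update e a j) = f * d' j := by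
          intro j
          by_cases hj : j = e a
          · simp [d', hj, hd]
          · by_cases hj' : j ∈ Set.range e
            · obtain ⟨a', rfl⟩ := hj'
              simp only [d', if_neg hj, if_pos (Set.mem_range_self a'), mul_zero]
              have hne : a' ≠ a := fun h => hj (h ▸ rfl)
              exact cminor_eq_zero z fun h => hne (h (by simp [hne]))
            · simp only [d', if_neg hj, if_neg hj', hd1]
        have hk' : ∑ j, d' j • x j ∈ T := by
          have := cminor_relation hz e a
          simp only [hd', mul_smul, ← Finset.smul_sum] at this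
          rw [hT, LinearMap.mem_ker, LinearMap.smul_apply, LinearMap.id_apply]
          exact this
        have h0 : ∑ j, d' j • T.mkQ (x j) = 0 := by
          simp only [← map_smul, ← map_sum]
          exact (Submodule.Quotient.mk_eq_zero T).2 hk'
        rw [← Finset.add_sum_erase _ _ (Finset.mem_univ (e a)), add_eq_zero_iff_eq_neg] at h0
        rw [show c • T.mkQ (x (e a)) = d' (e a) • T.mkQ (x (e a)) by simp [d'], h0]
        refine Submodule.neg_mem _ (Submodule.sum_mem _ fun j hj => ?_)
        by_cases hj' : j ∈ Set.range e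
        · simp only [d', if_neg (Finset.mem_erase.1 hj).1, if_pos hj', zero_smul]
          exact Submodule.zero_mem _
        · exact Submodule.smul_mem _ _ (Submodule.subset_span ⟨⟨j, hj'⟩, rfl⟩)
      · exact Submodule.smul_mem _ _ (Submodule.subset_span ⟨⟨i, hi⟩, rfl⟩)
  · refine ⟨3, ?_⟩
    let v' : Fin n → R := fun j => if h : j ∈ (Set.range e)ᶜ then v ⟨j, h⟩ else 0
    have hsum : ∀ {N : Type u} [AddCommGroup N] [Module R N] (g : Fin n → N),
        ∑ j, v' j • g j = ∑ i : ↥(Set.range e)ᶜ, v i • g i := by
      intro N _ _ g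
      rw [Finset.sum_congr_set ((Set.range e)ᶜ) (fun j => v' j • g j) (fun i => v i • g i)]
      · intro j hj; simp only [v', dif_pos hj]
      · intro j hj; simp only [v', dif_neg hj, zero_smul]
    have hker : f • v' ∈ rel (R := R) x := by
      have h1 : T.mkQ (∑ j, v' j • x j) = 0 := by
        rw [hsum x, map_sum]; simpa only [map_smul] using hv
      rw [Submodule.mkQ_apply, Submodule.Quotient.mk_eq_zero, hT, LinearMap.mem_ker,
        LinearMap.smul_apply, LinearMap.id_apply, Finset.smul_sum] at h1
      exact mem_rel.2 (by simpa [mul_smul] using h1)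
    obtain ⟨α, hα⟩ := Submodule.mem_span_range_iff_exists_fun R |>.1
      (smul_mem_span hz hf0 hd hf' hbot _ hker)
    have hα0 : ∀ b, c * α b = 0 := fun b => coeff_mem_zero hf0 hd α (fun a => by
      have := congrFun hα (e a)
      have hz0 : v' (e a) = 0 := dif_neg (fun h => h ⟨a, rfl⟩)
      simpa [hz0] using this) b
    have := congrFun hα i.1
    simp only [Finset.sum_apply, Pi.smul_apply, smul_eq_mul, v', dif_pos i.2] at this
    refine (mul_right_mem_nonZeroDivisors_eq_zero_iff hf0).1 ?_
    calc c ^ 3 * v i * f = c * (c ^ 2 * (f * v i)) := by ring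
      _ = ∑ b, c * α b * z b i.1 := by rw [← this, Finset.mul_sum]; simp [mul_assoc]
      _ = 0 := by simp [hα0]

theorem main [Module.FinitePresentation R M] (hf0 : f ∈ nonZeroDivisors R)
    (hf : Fitt.ideal R M k = Ideal.span {f}) (hk : k = 0 ∨ Fitt.ideal R M (k - 1) = ⊥) :
    HasProjectiveDimensionLT (ModuleCat.of R M) 2 ∧
    (∀ x : M, (∃ n : ℕ, f ^ n • x = 0) ↔ f • x = 0) ∧
    HasProjectiveDimensionLT (ModuleCat.of R ↥(LinearMap.ker (f • (LinearMap.id : M →ₗ[R] M)))) 2 ∧
    (∀ (p : Ideal R) [p.IsPrime], ∃ g : R, g ∉ p ∧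
      Module.Free (Localization.Away g)
          (LocalizedModule (Submonoid.powers g) (M ⧸ LinearMap.ker (f • (LinearMap.id : M →ₗ[R] M)))) ∧
        Module.finrank (Localization.Away g)
          (LocalizedModule (Submonoid.powers g) (M ⧸ LinearMap.ker (f • (LinearMap.id : M →ₗ[R] M)))) = k) ∧
    Nonempty (M ≃ₗ[R] (M ⧸ LinearMap.ker (f • (LinearMap.id : M →ₗ[R] M))) ×
      ↥(LinearMap.ker (f • (LinearMap.id : M →ₗ[R] M)))) := by
  set T := LinearMap.ker (f • (LinearMap.id : M →ₗ[R] M)) with hT
  have hloc : ∀ (p : Ideal R) [p.IsPrime], ∃ g : R, g ∉ p ∧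
      Module.Free (Localization.Away g) (LocalizedModule (Submonoid.powers g) (M ⧸ T)) ∧
        Module.finrank (Localization.Away g) (LocalizedModule (Submonoid.powers g) (M ⧸ T)) = k := by
    intro p hp
    obtain ⟨c, hc, ⟨b⟩⟩ := exists_basis_quotient hf0 hf hk p
    have : Nontrivial (Localization.Away c) :=
      (IsLocalization.isPrime_of_isPrime_disjoint (Submonoid.powers c) (Localization.Away c) p
        hp (by rwa [Ideal.disjoint_powers_iff_notMem _ hp.isRadical])).ne_top
          |> fun h => (not_subsingleton_iff_nontrivial.1 fun _ => h (Subsingleton.elim _ _))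
    exact ⟨c, hc, Module.Free.of_basis b, by rw [Module.finrank_eq_card_basis b, Fintype.card_fin]⟩
  have : Module.Projective R (M ⧸ T) := projective_of_free_away fun p hp => by
    obtain ⟨c, hc, h, -⟩ := hloc p
    exact ⟨c, hc, h⟩
  obtain ⟨s, hs⟩ := Module.projective_lifting_property T.mkQ LinearMap.id (Submodule.mkQ_surjective T)
  have hs' : ∀ q, T.mkQ (s q) = q := fun q => LinearMap.congr_fun hs q
  let r : M →ₗ[R] T := (LinearMap.id - s ∘ₗ T.mkQ).codRestrict T fun y =>
    (Submodule.Quotient.mk_eq_zero T).1 (by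
      rw [← Submodule.mkQ_apply, LinearMap.sub_apply, map_sub, LinearMap.comp_apply, hs']; simp)
  have hr : ∀ y, (r y : M) = y - s (T.mkQ y) := fun y => rfl
  have hT0 : ∀ t : T, T.mkQ (t : M) = 0 := fun t => (Submodule.Quotient.mk_eq_zero T).2 t.2
  have hpd : HasProjectiveDimensionLT (ModuleCat.of R M) 2 := by
    obtain ⟨n, x, hx⟩ := exists_gen R M
    have := projective_rel x hx hf0 hf hk
    let S : ShortComplex (ModuleCat.{u} R) := ShortComplex.mk
      (ModuleCat.ofHom (rel (R := R) x).subtype) (ModuleCat.ofHom (Fintype.linearCombination R x))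
      (by ext y; exact LinearMap.mem_ker.1 y.2)
    have hS : S.ShortExact := by
      refine { exact := ?_, mono_f := ?_, epi_g := ?_ }
      · rw [ShortComplex.moduleCat_exact_iff]
        exact fun y hy => ⟨⟨y, hy⟩, rfl⟩
      · exact (ModuleCat.mono_iff_injective _).2 Subtype.val_injective
      · refine (ModuleCat.epi_iff_surjective _).2 ?_
        rw [← LinearMap.range_eq_top]
        exact (Fintype.range_linearCombination R x).trans hx
    have : CategoryTheory.Projective S.X₁ := ModuleCat.projective_of_categoryTheory_projective _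
    exact hS.hasProjectiveDimensionLT_X₃ 1 inferInstance inferInstance
  refine ⟨hpd, fun y => ⟨fun ⟨j, hj⟩ => ?_, fun hy => ⟨1, by rw [pow_one]; exact hy⟩⟩, ?_, hloc, ⟨?_⟩⟩
  · obtain ⟨q, hq⟩ := Module.projective_def'.1 ‹Module.Projective R (M ⧸ T)›
    have hι : Function.Injective q :=
      Function.LeftInverse.injective (g := Finsupp.linearCombination R id) (fun y => LinearMap.congr_fun hq y)
    have h0 : q (T.mkQ y) = 0 := Finsupp.ext fun a => by
      have h := congrArg (fun v => v a) (show f ^ j • q (T.mkQ y) = 0 by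
        rw [← map_smul, ← map_smul, hj, map_zero, map_zero])
      simp only [Finsupp.smul_apply, smul_eq_mul, Finsupp.coe_zero, Pi.zero_apply] at h
      exact (mul_right_mem_nonZeroDivisors_eq_zero_iff (pow_mem hf0 j)).1 ((mul_comm _ _).trans h)
    have := (Submodule.Quotient.mk_eq_zero T).1 (hι (h0.trans (map_zero q).symm))
    rwa [hT, LinearMap.mem_ker, LinearMap.smul_apply, LinearMap.id_apply] at this
  · let ret : Retract (ModuleCat.of R ↥T) (ModuleCat.of R M) :=
      { i := ModuleCat.ofHom T.subtype
        r := ModuleCat.ofHom r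
        retract := ModuleCat.hom_ext (LinearMap.ext fun t => Subtype.ext (by
          show ((r (t : M) : T) : M) = t
          rw [hr, hT0, map_zero, sub_zero])) }
    exact ret.hasProjectiveDimensionLT 2
  · exact LinearEquiv.ofLinearMap (T.mkQ.prod r) (s.coprod T.subtype)
      (LinearMap.ext fun ⟨q, t⟩ => Prod.ext (by simp [← Submodule.mkQ_apply, hs', hT0])
        (Subtype.ext (by simp [hr, ← Submodule.mkQ_apply, hs', hT0])))
      (LinearMap.ext fun y => by simp [hr])

end Groth.Agent.FittX
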