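import Groth.Agent.FittX.Free
import Mathlib.RingTheory.LocalRing.MaximalIdeal.Basic

/-!
# Modules with a principal Fitting ideal
-/

universe u

open Module

namespace Groth.Agent.FittX

variable {R : Type u} [CommRing R] {M : Type u} [AddCommGroup M] [Module R M]

theorem exists_isUnit_minor [IsLocalRing R] {n m : ℕ} (x : Fin n → M) (f : R) (hf0 : f ≠ 0)
    (hf : minors m (rel (R := R) x) = Ideal.span {f}) :
    ∃ (z : Fin m → Fin n → R) (e : Fin m → Fin n) (c : R),
      (∀ b, z b ∈ rel (R := R) x) ∧ IsUnit c ∧ cminor z e = f * c := by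
  by_contra! hall
  have h : Ideal.span {f} ≤ Ideal.span {f} * IsLocalRing.maximalIdeal R := by
    conv_lhs => rw [← hf, minors_rel_eq_span]
    rw [Ideal.span_le]
    rintro d ⟨z, e, hz, rfl⟩
    obtain ⟨c, hc⟩ := Ideal.mem_span_singleton'.1
      (show cminor z e ∈ Ideal.span {f} from hf ▸ minor_proj z e ▸ minor_mem _ hz)
    rw [← hc, mul_comm c f]
    exact Ideal.mul_mem_mul (Ideal.mem_span_singleton_self f)
      ((IsLocalRing.mem_maximalIdeal _).2 fun hu => hall z e c hz hu (by rw [← hc, mul_comm]))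
  obtain ⟨a, ha, hfa⟩ := Ideal.mem_span_singleton_mul.1 (h (Ideal.mem_span_singleton_self f))
  refine hf0 (IsUnit.mul_left_eq_zero (IsLocalRing.isUnit_one_sub_self_of_mem_nonunits a
    ((IsLocalRing.mem_maximalIdeal _).1 ha)) |>.1 (by rw [mul_sub, mul_one, hfa, sub_self]))

theorem exists_gen_quotient [IsLocalRing R] [Module.Finite R M] (k : ℕ) (f : R)
    (hf : Fitt.ideal R M k = Ideal.span {f}) :
    ∃ g : Fin k → M ⧸ LinearMap.ker (f • (LinearMap.id : M →ₗ[R] M)),
      Submodule.span R (Set.range g) = ⊤ := by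
  classical
  set K := LinearMap.ker (f • (LinearMap.id : M →ₗ[R] M)) with hK
  by_cases hf0 : f = 0
  · have : Subsingleton (M ⧸ K) := by
      rw [Submodule.Quotient.subsingleton_iff]
      simp [hK, hf0]
    exact ⟨0, Subsingleton.elim _ _⟩
  obtain ⟨n, x, hx⟩ := exists_gen R M
  rw [ideal_eq_minors x hx] at hf
  obtain ⟨z, e, c, hz, hc, hce⟩ := exists_isUnit_minor x f hf0 hf
  have hinj : Function.Injective e := by
    by_contra hcon
    rw [cminor_eq_zero z hcon] at hce
    exact hf0 (IsUnit.mul_left_eq_zero hc |>.1 hce.symm)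
  obtain ⟨g, hg⟩ := exists_span_compl_eq (R := R) x hinj
  refine ⟨fun i => K.mkQ (g i), ?_⟩
  rw [show (fun i => K.mkQ (g i)) = K.mkQ ∘ g from rfl, Set.range_comp, Submodule.span_image, eq_top_iff]
  refine le_trans ?_ (Submodule.map_mono hg)
  rw [← Submodule.span_image, ← Submodule.range_mkQ K, LinearMap.range_eq_map, ← hx, Submodule.map_span,
    Submodule.span_le]
  rintro _ ⟨_, ⟨i, rfl⟩, rfl⟩
  by_cases hi : i ∈ Set.range e
  · obtain ⟨a, rfl⟩ := hi
    have hmem : ∀ j, ∃ d, cminor z (Function.update e a j) = f * d := fun j => by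
      obtain ⟨d, hd⟩ := Ideal.mem_span_singleton'.1
        (show cminor z (Function.update e a j) ∈ Ideal.span {f} from hf ▸ minor_proj z _ ▸ minor_mem _ hz)
      exact ⟨d, by rw [← hd, mul_comm]⟩
    choose d hd using hmem
    let d' : Fin n → R := fun j => if j = e a then c else if j ∈ Set.range e then 0 else d j
    have hd' : ∀ j, cminor z (Function.update e a j) = f * d' j := by
      intro j
      by_cases hj : j = e a
      · simp [d', hj, hce]
      · by_cases hj' : j ∈ Set.range e
        · obtain ⟨a', rfl⟩ := hj'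
          simp only [d', if_neg hj, if_pos (Set.mem_range_self a'), mul_zero]
          have hne : a' ≠ a := fun h => hj (h ▸ rfl)
          exact cminor_eq_zero z fun h => hne (h (by simp [hne]))
        · simp only [d', if_neg hj, if_neg hj', hd]
    have hk : ∑ j, d' j • x j ∈ K := by
      have := cminor_relation hz e a
      simp only [hd', mul_smul, ← Finset.smul_sum] at this
      rw [hK, LinearMap.mem_ker, LinearMap.smul_apply, LinearMap.id_apply]
      exact this
    have h0 : ∑ j, d' j • K.mkQ (x j) = 0 := by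
      simp only [← map_smul, ← map_sum]
      exact (Submodule.Quotient.mk_eq_zero K).2 hk
    rw [← Finset.add_sum_erase _ _ (Finset.mem_univ (e a)), add_eq_zero_iff_eq_neg] at h0
    rw [SetLike.mem_coe, ← Submodule.smul_mem_iff_of_isUnit _ hc,
      show c • K.mkQ (x (e a)) = d' (e a) • K.mkQ (x (e a)) by simp [d'], h0]
    refine Submodule.neg_mem _ (Submodule.sum_mem _ fun j hj => ?_)
    by_cases hj' : j ∈ Set.range e
    · simp only [d', if_neg (Finset.mem_erase.1 hj).1, if_pos hj', zero_smul]
      exact Submodule.zero_mem _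
    · exact Submodule.smul_mem _ _ (Submodule.subset_span ⟨x j, ⟨j, hj', rfl⟩, rfl⟩)
  · exact Submodule.subset_span ⟨x i, ⟨i, hi, rfl⟩, rfl⟩

end Groth.Agent.FittX
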